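import Groth.Agent.IntSym.Basic
import Groth.Agent.S8914
import Groth.Agent.AssPtX.Basic
import Groth.Agent.IntNum.NegTwist
import Groth.Agent.Lib.CurvePoint
import Groth.Agent.ParShLib.ResStalk

/-! Cutting by an effective Cartier divisor. -/

noncomputable section

set_option linter.style.haveILetI false
set_option linter.unusedSectionVars false
set_option backward.isDefEq.respectTransparency false
set_option backward.isDefEq.respectTransparency.types false

universe u

open CategoryTheory CategoryTheory.Limits AlgebraicGeometry TopologicalSpace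

namespace Groth.Agent.IntSym

variable {X : Scheme.{u}}

/-- The structure sequence of a closed subscheme. -/
theorem shortExact_toSubscheme (D : X.IdealSheafData) :
    (ShortComplex.mk (ClSub.idealModι D) (ClSub.toSubscheme D) (kernel.condition _)).ShortExact :=
  { exact := ShortComplex.exact_of_f_is_kernel _ (kernelIsKernel (ClSub.toSubscheme D))
    mono_f := inferInstanceAs (Mono (kernel.ι (ClSub.toSubscheme D)))
    epi_g := CurvePoint.epi_toSubscheme D }

variable [IsLocallyNoetherian X]

/-- Tensoring the inclusion of the ideal of a divisor avoiding the associated points is injective. -/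
theorem mono_tensor_idealModι {D : X.IdealSheafData} (hD : BlowUp.IsEffCartierIdeal D) {F : X.Modules}
    (hF : Coh.IsQCoh F) (hass : ∀ x ∈ D.support, ¬ Curv2.IsAssPoint F x) :
    Mono (((DCoh.tensorBi (X := X)).obj F).map (ClSub.idealModι D)) := by
  have hI := (S8914.result D).2 hD
  refine AssPtX.mono_of_stalk _ (KFlatLib.isQCoh_tensor hF (ProjUPX.isQCoh_of_isInvertible hI)) fun x => ?_
  by_cases hx : x ∈ D.support
  · exact Or.inr fun h => hass x hx (AssPtX.isAssPoint_iff.2 (IntNum.isWeakAssPoint_of_tensor_invertible hI h))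
  · refine Or.inl ?_
    let Φ := DerSch.stalkFunctor X x
    have hz : IsZero (Φ.obj (ClSub.quotMod D)) :=
      @ModuleCat.isZero_of_subsingleton _ _ (Φ.obj (ClSub.quotMod D)) (ParShLib.subsingleton_stalk_quotMod D hx)
    have hS := (shortExact_toSubscheme D).map_of_exact Φ
    haveI : Mono (Φ.map (ClSub.idealModι D)) := hS.mono_f
    haveI : Epi (Φ.map (ClSub.idealModι D)) := hS.exact.epi_f (hz.eq_of_tgt _ _)
    haveI : IsIso (Φ.map (ClSub.idealModι D)) := isIso_of_mono_of_epi _
    haveI : IsIso (Φ.map (((DCoh.tensorBi (X := X)).obj F).map (ClSub.idealModι D))) :=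
      (NatIso.isIso_map_iff (KFlatLib.stalkTensorLeftIso F x) (ClSub.idealModι D)).2 (inferInstanceAs
        (IsIso ((MonoidalCategory.tensorLeft _).map (Φ.map (ClSub.idealModι D)))))
    exact ((ConcreteCategory.isIso_iff_bijective
      (Φ.map (((DCoh.tensorBi (X := X)).obj F).map (ClSub.idealModι D)))).1 inferInstance).1

variable (k : Type u) [Field k] [X.Over (Spec (CommRingCat.of k))] [IsProper (X ↘ Spec (CommRingCat.of k))]

/-- Intersecting with a divisor is restriction to it. -/
theorem sym_cartier {D : X.IdealSheafData} (hD : BlowUp.IsEffCartierIdeal D) {F : X.Modules}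
    (hF : Coh.IsCoh F) (hass : ∀ x ∈ D.support, ¬ Curv2.IsAssPoint F x) {l : List X.Modules} (hl : Inv l) :
    sym k (ClSub.idealMod D :: l) F = - sym k l (CohB1.tensorMod F (ClSub.quotMod D)) := by
  haveI := CurveCohLib.isNoetherian_of_proper (k := k) (X := X)
  have hI := (S8914.result D).2 hD
  haveI := mono_tensor_idealModι hD hF.1 hass
  let T := (DCoh.tensorBi (X := X)).obj F
  let φ := T.map (ClSub.idealModι D)
  let eq0 : cokernel (ClSub.idealModι D) ≅ ClSub.quotMod D :=
    (cokernelIsCokernel (ClSub.idealModι D)).coconePointUniqueUpToIso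
      (shortExact_toSubscheme D).gIsCokernel
  let eT : T.obj (cokernel (ClSub.idealModι D)) ≅ cokernel φ := PreservesCokernel.iso T (ClSub.idealModι D)
  let eQ : T.obj (cokernel (ClSub.idealModι D)) ≅ T.obj (ClSub.quotMod D) := T.mapIso eq0
  have hc : cokernel φ ≅ T.obj (ClSub.quotMod D) := eT.symm ≪≫ eQ
  have h1 : Coh.IsCoh (CohB1.tensorMod F (ClSub.idealMod D)) :=
    AmpleVan.isCoh_tensor hF (AmpleVan.isCoh_invertible hI)
  have h2 : Coh.IsCoh (CohB1.tensorMod F (Coh.structureModule X)) :=
    AmpleVan.isCoh_tensor hF QCoh.isCoh_structureModule'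
  have hadd := (additive_sym k hl).add (ShortComplex.mk φ (cokernel.π φ) (cokernel.condition φ))
    (.mk' (ShortComplex.exact_of_g_is_cokernel _ (cokernelIsCokernel φ)) ‹_› inferInstance) h1 h2
    (QCoh.isCoh_cokernel h1.1 h2 φ)
  have e0 : sym k l (T.obj (Coh.structureModule X)) = sym k l F := sym_iso k hl (AmpleVan.twUnit.app F)
  have e1 : sym k l (cokernel φ) = sym k l (CohB1.tensorMod F (ClSub.quotMod D)) := sym_iso k hl hc
  change sym k l (T.obj (Coh.structureModule X)) = sym k l (T.obj (ClSub.idealMod D)) + sym k l (cokernel φ) at hadd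
  rw [sym_cons]
  show sym k l (T.obj (ClSub.idealMod D)) - sym k l F = _
  linarith

end Groth.Agent.IntSym
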