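import Groth.Agent.IntSym.Num
import Groth.Agent.IntNum.Push
import Groth.Agent.QCoh.Devissage

/-! Degree hypotheses on curves given by ideals. -/

noncomputable section

set_option linter.style.haveILetI false
set_option linter.unusedSectionVars false
set_option backward.isDefEq.respectTransparency false
set_option backward.isDefEq.respectTransparency.types false

universe u

open CategoryTheory CategoryTheory.Limits AlgebraicGeometry TopologicalSpace

namespace Groth.Agent.IntSym

variable {X : Scheme.{u}} (k : Type u) [Field k] [X.Over (Spec (CommRingCat.of k))]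
  [IsProper (X ↘ Spec (CommRingCat.of k))]

include k in
/-- The reduced subscheme on the image of an integral closed subscheme. -/
theorem exists_ideal {Z : Scheme.{u}} (i : Z ⟶ X) [IsClosedImmersion i] [IsIntegral Z] :
    ∃ C : X.IdealSheafData, IsIntegral C.subscheme ∧ (C.support : Set X) = Set.range i ∧
      topologicalKrullDim (C.support : Set X) = topologicalKrullDim Z ∧
      Nonempty ((Coh.push i).obj (Coh.structureModule Z) ≅ ClSub.quotMod C) := by
  haveI := CurveCohLib.isNoetherian_of_proper (k := k) (X := X)
  let C := IntNum.ptIdeal (i (genericPoint Z))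
  have hr : Set.range C.subschemeι = Set.range i := by rw [IntNum.range_ptIdeal, QCoh.range_eq_closure i]
  haveI : IsIntegral C.subscheme := QCoh.isIntegral_closure_point (i (genericPoint Z))
  have hs : (C.support : Set X) = Set.range i := by rw [← C.range_subschemeι, hr]
  exact ⟨C, inferInstance, hs, by rw [hs]; exact (dim_eq_of_range i rfl).symm,
    (QCoh.push_structure_iso i C.subschemeι hr).map Iso.symm⟩

theorem numEq_of_ideals {L L' : X.Modules}
    (h : ∀ C : X.IdealSheafData, IsIntegral C.subscheme → topologicalKrullDim (C.support : Set X) = 1 →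
      sym k [L] (ClSub.quotMod C) = sym k [L'] (ClSub.quotMod C)) (hL : PicF.IsInvertible L)
    (hL' : PicF.IsInvertible L') : NumEq k L L' := by
  intro Z i _ _ hZ
  obtain ⟨C, hC, -, hd, ⟨e⟩⟩ := exists_ideal k i
  rw [sym_iso k (List.forall_mem_singleton.2 hL) e, sym_iso k (List.forall_mem_singleton.2 hL') e]
  exact h C hC (hd.trans hZ)

end Groth.Agent.IntSym
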