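import Groth.Agent.IntSym.TwoCartier
import Groth.Agent.IntSym.Cartier
import Groth.Agent.IntSym.Curves
import Groth.Agent.DivX.CodimOne
import Groth.Agent.S2821
import Groth.Agent.VarDim.Top
import Groth.Agent.H23.P1Graph
import Groth.Agent.VolLib.Kodaira

/-!
# Curves on regular surfaces as Cartier divisors
-/

set_option linter.style.haveILetI false
set_option linter.unusedSectionVars false
set_option backward.isDefEq.respectTransparency false
set_option backward.isDefEq.respectTransparency.types false
set_option maxHeartbeats 1000000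

universe u

open CategoryTheory CategoryTheory.Limits AlgebraicGeometry TopologicalSpace
open Groth.Agent.H23.PicMul
open scoped Groth.Agent.H23.PicMul

noncomputable section

namespace Groth.Agent.IntSym.CurveSurface

theorem nonempty_unit_tensor {X : Scheme.{u}} (Q : X.Modules) :
    Nonempty (CohB1.tensorMod (Coh.structureModule X) Q ≅ Q) := by
  let e₁ : CohB1.tensorMod (Coh.structureModule X) Q ≅ CohB1.tensorMod Q (Coh.structureModule X) :=
    CurveTensor.commIso (Coh.structureModule X) Q
  let e₂ : CohB1.tensorMod Q (Coh.structureModule X) ≅ Q := AmpleVan.twUnit.app Q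
  exact ⟨e₁.trans e₂⟩

variable (k : Type u) [Field k] {S : Scheme.{u}} [S.Over (Spec (CommRingCat.of k))]
  [IsProper (S ↘ Spec (CommRingCat.of k))]

include k in
/-- A curve on a regular surface is an effective Cartier divisor. -/
theorem isEffCartier_ker [IsIntegral S] (hdim : topologicalKrullDim S = ((2 : ℕ) : WithBot ℕ∞))
    (hreg : ∀ x : S, IsRegularLocalRing (S.presheaf.stalk x))
    {C : Scheme.{u}} (i : C ⟶ S) [IsClosedImmersion i] [IsIntegral C]
    (hC : topologicalKrullDim C = ((1 : ℕ) : WithBot ℕ∞)) : BlowUp.IsEffCartierIdeal i.ker := by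
  haveI := CurveCohLib.isNoetherian_of_proper (k := k) (X := S)
  obtain ⟨hI, hgen⟩ := H23.P1Graph.image_integral i
  haveI := hI
  refine DivX.isEffCartier_of_codim_one i.ker ?_ fun x _ => by
    haveI := hreg x
    exact S2821.result (S.presheaf.stalk x)
  set ξ := i.ker.subschemeι (genericPoint ↥i.ker.subscheme) with hξdef
  let p := S ↘ Spec (CommRingCat.of k)
  have hξ : VarDim.deg p ξ = 1 := by
    have h := VarDim.topologicalKrullDim_closure_singleton p ξ
    have h2 : topologicalKrullDim ↥(closure ({ξ} : Set S)) = ((1 : ℕ) : WithBot ℕ∞) := by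
      rw [hgen, ← QCoh.range_eq_closure i, ← dim_eq_of_range i rfl, hC]
    rw [h2] at h
    exact_mod_cast h.symm
  have hη : VarDim.deg p (genericPoint ↥S) = 2 := by
    have h := VarDim.topologicalKrullDim_eq_deg_genericPoint p
    rw [hdim] at h
    exact ENat.natCast_inj.1 (WithBot.coe_inj.1 h.symm)
  obtain ⟨b, hb, ⟨η, hηx, hηd⟩, hle⟩ := VarDim.exists_deg_add_stalk p ξ
  have h1 : VarDim.deg p η ≤ 2 := hη ▸ VarDim.deg_le_of_specializes p (genericPoint_specializes η)
  have h2 := hle (genericPoint ↥S) (genericPoint_specializes ξ)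
  rw [hb, show b = 1 by omega]
  rfl

include k in
theorem nonempty_quotMod_iso {C : Scheme.{u}} (i : C ⟶ S) [IsClosedImmersion i] [IsIntegral C] :
    Nonempty ((Coh.push i).obj (Coh.structureModule C) ≅ ClSub.quotMod i.ker) := by
  haveI := CurveCohLib.isNoetherian_of_proper (k := k) (X := S)
  obtain ⟨hI, hgen⟩ := H23.P1Graph.image_integral i
  haveI := hI
  exact (QCoh.push_structure_iso i i.ker.subschemeι (by
    rw [QCoh.range_eq_closure i, QCoh.range_eq_closure i.ker.subschemeι, hgen])).map Iso.symm

theorem intNum_pair (hd : topologicalKrullDim S ≤ ((2 : ℕ) : WithBot ℕ∞)) {A B : S.Modules}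
    (hA : PicF.IsInvertible A) (hB : PicF.IsInvertible B) :
    FGA.intNum k S 2 ![A, B] (Coh.structureModule S) = sym k [A, B] (Coh.structureModule S) := by
  haveI := CurveCohLib.isNoetherian_of_proper (k := k) (X := S)
  rw [intNum_eq k hd _ (fun j => by
    cases j using Fin.cases with
    | zero => exact hA
    | succ j => rw [Subsingleton.elim j 0]; exact hB) (QCoh.isCoh_structureModule' (X := S)), neg_one_sq, one_mul,
    List.ofFn_succ, List.ofFn_succ, List.ofFn_zero]
  rfl

/-- Intersection with the ideal of a divisor on a surface. -/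
theorem intNum_idealMod (hd : topologicalKrullDim S ≤ ((2 : ℕ) : WithBot ℕ∞)) {D : S.IdealSheafData}
    (hD : BlowUp.IsEffCartierIdeal D) {M : S.Modules} (hM : PicF.IsInvertible M) :
    FGA.intNum k S 2 ![ClSub.idealMod D, M] (Coh.structureModule S) = - sym k [M] (ClSub.quotMod D) := by
  haveI := CurveCohLib.isNoetherian_of_proper (k := k) (X := S)
  have hI := (S8914.result D).2 hD
  have hl : Inv [M] := List.forall_mem_singleton.2 hM
  have hO : Coh.IsCoh (Coh.structureModule S) := QCoh.isCoh_structureModule' (X := S)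
  rw [intNum_pair k hd hI hM,
    sym_cartier k hD hO (fun x hx => TwoCartier.not_assPoint_structure hD hx) hl]
  obtain ⟨e⟩ : Nonempty (CohB1.tensorMod (Coh.structureModule S) (ClSub.quotMod D) ≅ ClSub.quotMod D) :=
    nonempty_unit_tensor (ClSub.quotMod D)
  rw [sym_iso k hl e]

/-- The intersection number of a curve with an invertible module is the degree of the restriction. -/
theorem intNum_curve [IsIntegral S] (hdim : topologicalKrullDim S = ((2 : ℕ) : WithBot ℕ∞))
    (hreg : ∀ x : S, IsRegularLocalRing (S.presheaf.stalk x))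
    {C : Scheme.{u}} (i : C ⟶ S) [IsClosedImmersion i] [IsIntegral C]
    (hC : topologicalKrullDim C = ((1 : ℕ) : WithBot ℕ∞))
    {L L' : S.Modules} (hL : PicF.IsInvertible L) (u : CohB1.tensorMod L L' ≅ Coh.structureModule S) :
    FGA.intNum k S 2 ![ClSub.idealMod i.ker, L'] (Coh.structureModule S) =
      sym k [L] ((Coh.push i).obj (Coh.structureModule C)) := by
  haveI := CurveCohLib.isNoetherian_of_proper (k := k) (X := S)
  have hL' := VolLib.isInvertible_of_inverse hL (CurveTensor.commIso L' L ≪≫ u)
  obtain ⟨e⟩ := nonempty_quotMod_iso k i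
  have hF : Coh.IsCoh ((Coh.push i).obj (Coh.structureModule C)) := QCoh.isCoh_push_structure i
  rw [intNum_idealMod k hdim.le (isEffCartier_ker k hdim hreg i hC) hL',
    sym_inverse_head k hL' hL (CurveTensor.commIso L' L ≪≫ u) (l := []) (List.forall_mem_nil _)
      (ParShLib.isCoh_quotMod i.ker) ?_, neg_neg, sym_iso k (List.forall_mem_singleton.2 hL) e.symm]
  refine (H23.TopDim.dim_le_dim_of_subset (T := Set.range i) ?_).trans ((dim_eq_of_range i rfl).symm.le.trans hC.le)
  intro x hx
  by_contra h
  refine hx (ParShLib.subsingleton_stalk_quotMod i.ker fun hmem => h ?_)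
  rw [← SetLike.mem_coe, Scheme.Hom.support_ker, i.isClosedEmbedding.isClosed_range.closure_eq] at hmem
  exact hmem

/-- Curve degrees determine numerical equivalence on a regular surface. -/
theorem numEq_of_intNum [IsIntegral S] (hdim : topologicalKrullDim S = ((2 : ℕ) : WithBot ℕ∞))
    (hreg : ∀ x : S, IsRegularLocalRing (S.presheaf.stalk x))
    {L₁ L₂ : S.Modules} (h₁ : PicF.IsInvertible L₁) (h₂ : PicF.IsInvertible L₂)
    (hnum : ∀ M : S.Modules, PicF.IsInvertible M →
      FGA.intNum k S 2 ![L₁, M] (Coh.structureModule S) = FGA.intNum k S 2 ![L₂, M] (Coh.structureModule S)) :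
    NumEq k L₁ L₂ := by
  haveI := CurveCohLib.isNoetherian_of_proper (k := k) (X := S)
  intro Z i _ _ hZ
  have hZ' : topologicalKrullDim Z = ((1 : ℕ) : WithBot ℕ∞) := hZ
  have hI := (S8914.result i.ker).2 (isEffCartier_ker k hdim hreg i hZ')
  have hO : Coh.IsCoh (Coh.structureModule S) := QCoh.isCoh_structureModule' (X := S)
  obtain ⟨e⟩ := nonempty_quotMod_iso k i
  have key : ∀ {A : S.Modules}, PicF.IsInvertible A →
      FGA.intNum k S 2 ![A, ClSub.idealMod i.ker] (Coh.structureModule S) =
        - sym k [A] ((Coh.push i).obj (Coh.structureModule Z)) := fun {A} hA => by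
    rw [sym_iso k (List.forall_mem_singleton.2 hA) e, ← intNum_idealMod k hdim.le (isEffCartier_ker k hdim hreg i hZ') hA,
      intNum_pair k hdim.le hA hI, intNum_pair k hdim.le hI hA]
    exact (sym_perm k (List.Perm.swap (ClSub.idealMod i.ker) A [])
      (List.forall_mem_cons.2 ⟨hA, List.forall_mem_singleton.2 hI⟩) _)
  have h := hnum _ hI
  rw [key h₁, key h₂] at h
  exact neg_inj.1 h

end Groth.Agent.IntSym.CurveSurface
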