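import Groth.Agent.IntSym.Cartier
import Groth.Agent.KFlatLib.Perfect.Tensor
import Groth.Agent.AmpleVan.Tw

/-! `O/I ⊗ O/J ≅ O/(I + J)`. -/

noncomputable section

set_option linter.style.haveILetI false
set_option backward.isDefEq.respectTransparency false
set_option backward.isDefEq.respectTransparency.types false

universe u

open CategoryTheory CategoryTheory.Limits AlgebraicGeometry TopologicalSpace

namespace Groth.Agent.IntSym.QuotTensor

variable {X : Scheme.{u}}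

local notation "O_" => Coh.structureModule X

theorem toSub_app_eq_zero (I : X.IdealSheafData) {W : X.Opens} (hW : IsAffineOpen W) (r : Γ(X, W)) :
    (ClSub.toSubscheme I).app W r = 0 ↔ r ∈ I.ideal ⟨W, hW⟩ := by
  rw [← I.ker_subschemeι_app ⟨W, hW⟩, RingHom.mem_ker]; rfl

theorem app_eq_zero (I : X.IdealSheafData) {G : X.Modules} (g : O_ ⟶ G) (hg : ClSub.idealModι I ≫ g = 0)
    {W : X.Opens} (hW : IsAffineOpen W) {r : Γ(X, W)} (hr : r ∈ I.ideal ⟨W, hW⟩) : g.app W r = 0 := by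
  obtain ⟨g', hg'⟩ := CokernelCofork.IsColimit.desc' (shortExact_toSubscheme I).gIsCokernel g hg
  have h : (ClSub.toSubscheme I) ≫ g' = g := hg'
  rw [← h]
  show g'.app W ((ClSub.toSubscheme I).app W r) = 0
  rw [(toSub_app_eq_zero I hW r).2 hr, map_zero]

theorem comp_sup (I J : X.IdealSheafData) {G : X.Modules} (g : O_ ⟶ G) (hI : ClSub.idealModι I ≫ g = 0)
    (hJ : ClSub.idealModι J ≫ g = 0) : ClSub.idealModι (I ⊔ J) ≫ g = 0 := by
  refine Scheme.Modules.hom_ext _ 0 fun V => AddCommGrpCat.ext fun y => ?_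
  refine (QCoh.eq_zero_of_locally V _ fun p hp => ?_).trans rfl
  obtain ⟨_, ⟨W, hW, rfl⟩, hpW, hWV⟩ :=
    X.isBasis_affineOpens.exists_subset_of_mem_open (show p ∈ V from hp) V.isOpen
  refine ⟨W, homOfLE hWV, hpW, ?_⟩
  rw [← QCoh.map_app_comm]
  set s := (ClSub.idealMod (I ⊔ J)).presheaf.map (homOfLE hWV).op y
  show g.app W ((ClSub.idealModι (I ⊔ J)).app W s) = 0
  have h0 : (ClSub.toSubscheme (I ⊔ J)).app W ((ClSub.idealModι (I ⊔ J)).app W s) = 0 :=
    congr(($(kernel.condition (ClSub.toSubscheme (I ⊔ J)))).app W s)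
  have hr := (toSub_app_eq_zero (I ⊔ J) hW _).1 h0
  rw [Scheme.IdealSheafData.ideal_sup, Pi.sup_apply, Submodule.mem_sup] at hr
  obtain ⟨a, ha, b, hb, hab⟩ := hr
  rw [← hab]
  have e1 := app_eq_zero I g hI hW ha
  have e2 := app_eq_zero J g hJ hW hb
  exact (map_add (g.app W).hom (show Γ(O_, W) from a) (show Γ(O_, W) from b)).trans
    ((congrArg₂ (· + ·) e1 e2).trans (add_zero _))

theorem comp_auto (J : X.IdealSheafData) {G : X.Modules} (g : O_ ⟶ G) (hJ : ClSub.idealModι J ≫ g = 0)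
    (β : O_ ⟶ O_) : ClSub.idealModι J ≫ β ≫ g = 0 := by
  refine Scheme.Modules.hom_ext _ 0 fun V => AddCommGrpCat.ext fun y => ?_
  refine (QCoh.eq_zero_of_locally V _ fun p hp => ?_).trans rfl
  obtain ⟨_, ⟨W, hW, rfl⟩, hpW, hWV⟩ :=
    X.isBasis_affineOpens.exists_subset_of_mem_open (show p ∈ V from hp) V.isOpen
  refine ⟨W, homOfLE hWV, hpW, ?_⟩
  rw [← QCoh.map_app_comm]
  set s := (ClSub.idealMod J).presheaf.map (homOfLE hWV).op y
  show g.app W (β.app W ((ClSub.idealModι J).app W s)) = 0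
  have h0 : (ClSub.toSubscheme J).app W ((ClSub.idealModι J).app W s) = 0 :=
    congr(($(kernel.condition (ClSub.toSubscheme J))).app W s)
  set r : Γ(X, W) := (ClSub.idealModι J).app W s with hrdef
  refine app_eq_zero J g hJ hW ?_
  have h1 : β.app W r = r * (show Γ(X, W) from β.app W (1 : Γ(X, W))) := by
    conv_lhs => rw [← mul_one r]
    exact Scheme.Modules.Hom.app_smul β r (1 : Γ(X, W))
  rw [h1]
  exact Ideal.mul_mem_right _ _ ((toSub_app_eq_zero J hW r).1 h0)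

theorem key_gen {T₀ T : X.Modules ⥤ X.Modules} (m : T₀ ⟶ T) (l : T₀ ≅ 𝟭 X.Modules) {A O Q : X.Modules}
    (ι : A ⟶ O) (v : T₀.obj O ⟶ O) (u : T.obj O ⟶ Q) (s : O ⟶ Q) (h2 : v ≫ s = m.app O ≫ u) :
    m.app A ≫ T.map ι ≫ u = l.hom.app A ≫ ι ≫ (l.inv.app O ≫ v) ≫ s := by
  have h1 : l.hom.app A ≫ ι = T₀.map ι ≫ l.hom.app O := (l.hom.naturality ι).symm
  rw [Category.assoc, reassoc_of% h1, l.hom_inv_id_app_assoc, h2, ← m.naturality_assoc]

theorem ι_toSubscheme_of_le {I K : X.IdealSheafData} (hKI : K ≤ I) :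
    ClSub.idealModι K ≫ ClSub.toSubscheme I = 0 := by
  refine Scheme.Modules.hom_ext _ 0 fun V => AddCommGrpCat.ext fun y => ?_
  refine (QCoh.eq_zero_of_locally V _ fun p hp => ?_).trans rfl
  obtain ⟨_, ⟨W, hW, rfl⟩, hpW, hWV⟩ :=
    X.isBasis_affineOpens.exists_subset_of_mem_open (show p ∈ V from hp) V.isOpen
  refine ⟨W, homOfLE hWV, hpW, ?_⟩
  rw [← QCoh.map_app_comm]
  set s := (ClSub.idealMod K).presheaf.map (homOfLE hWV).op y
  show (ClSub.toSubscheme I).app W ((ClSub.idealModι K).app W s) = 0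
  have h0 : (ClSub.toSubscheme K).app W ((ClSub.idealModι K).app W s) = 0 :=
    congr(($(kernel.condition (ClSub.toSubscheme K))).app W s)
  exact (toSub_app_eq_zero _ hW _).2 (hKI ⟨W, hW⟩ ((toSub_app_eq_zero K hW _).1 h0))

theorem coker_iso (I J : X.IdealSheafData) {A B : X.Modules} (ψ : A ⟶ ClSub.quotMod I)
    (a : B ⟶ A) [Epi a] (l : B ≅ ClSub.idealMod J) (β β' : O_ ⟶ O_) (hββ : β' ≫ β = 𝟙 _)
    (key : a ≫ ψ = l.hom ≫ ClSub.idealModι J ≫ β ≫ ClSub.toSubscheme I) :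
    Nonempty (cokernel ψ ≅ ClSub.quotMod (I ⊔ J)) := by
  haveI : Epi (ClSub.toSubscheme I) := CurvePoint.epi_toSubscheme I
  haveI : Epi (ClSub.toSubscheme (I ⊔ J)) := CurvePoint.epi_toSubscheme (I ⊔ J)
  obtain ⟨q₁, hq₁⟩ := CokernelCofork.IsColimit.desc' (shortExact_toSubscheme I).gIsCokernel _
    (ι_toSubscheme_of_le (I := I ⊔ J) (K := I) le_sup_left)
  have hq₁' : ClSub.toSubscheme I ≫ q₁ = ClSub.toSubscheme (I ⊔ J) := hq₁
  have hψ : ψ ≫ q₁ = 0 := by
    rw [← cancel_epi a, reassoc_of% key, hq₁',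
      comp_auto J _ (ι_toSubscheme_of_le (I := I ⊔ J) le_sup_right) β, comp_zero, comp_zero]
  let g : O_ ⟶ cokernel ψ := ClSub.toSubscheme I ≫ cokernel.π ψ
  have hgI : ClSub.idealModι I ≫ g = 0 := by
    simp only [g]
    rw [← Category.assoc, show ClSub.idealModι I ≫ ClSub.toSubscheme I = 0 from kernel.condition _, zero_comp]
  have hgJ : ClSub.idealModι J ≫ g = 0 := by
    have h1 : ClSub.idealModι J ≫ β ≫ g = 0 := by
      rw [← cancel_epi l.hom]
      simp only [g]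
      rw [← reassoc_of% key, cokernel.condition, comp_zero, comp_zero]
    have h2 := comp_auto J (β ≫ g) h1 β'
    rwa [← Category.assoc β', hββ, Category.id_comp] at h2
  obtain ⟨r, hr⟩ := CokernelCofork.IsColimit.desc' (shortExact_toSubscheme (I ⊔ J)).gIsCokernel g
    (comp_sup I J g hgI hgJ)
  have hr' : ClSub.toSubscheme (I ⊔ J) ≫ r = g := hr
  exact ⟨{ hom := cokernel.desc ψ q₁ hψ
           inv := r
           hom_inv_id := by
             rw [← cancel_epi (cokernel.π ψ), ← cancel_epi (ClSub.toSubscheme I), cokernel.π_desc_assoc,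
               reassoc_of% hq₁', hr', Category.comp_id]
           inv_hom_id := by
             rw [← cancel_epi (ClSub.toSubscheme (I ⊔ J)), reassoc_of% hr']
             simp only [g, Category.assoc, cokernel.π_desc, hq₁', Category.comp_id] }⟩

theorem iso_gen (I J : X.IdealSheafData) {T₀ T : X.Modules ⥤ X.Modules} [∀ {A B : X.Modules} (f : A ⟶ B), PreservesColimit (parallelPair f 0) T]
    [T.PreservesZeroMorphisms] (m : T₀ ⟶ T) (l : T₀ ≅ 𝟭 X.Modules) [Epi (m.app (ClSub.idealMod J))]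
    (u : T.obj O_ ≅ ClSub.quotMod I) (v : T₀.obj O_ ≅ O_)
    (h2 : v.hom ≫ ClSub.toSubscheme I = m.app O_ ≫ u.hom) :
    Nonempty (T.obj (ClSub.quotMod J) ≅ ClSub.quotMod (I ⊔ J)) := by
  obtain ⟨e⟩ := coker_iso I J (T.map (ClSub.idealModι J) ≫ u.hom) (m.app _) (l.app _)
    (l.inv.app O_ ≫ v.hom) (v.inv ≫ l.hom.app O_) (by simp)
    (key_gen m l (ClSub.idealModι J) v.hom u.hom (ClSub.toSubscheme I) h2)
  let eq0 : cokernel (ClSub.idealModι J) ≅ ClSub.quotMod J :=
    (cokernelIsCokernel (ClSub.idealModι J)).coconePointUniqueUpToIso (shortExact_toSubscheme J).gIsCokernel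
  exact ⟨T.mapIso eq0.symm ≪≫ PreservesCokernel.iso T (ClSub.idealModι J) ≪≫
    cokernel.mapIso (T.map (ClSub.idealModι J)) (T.map (ClSub.idealModι J) ≫ u.hom) (Iso.refl _) u (by simp) ≪≫ e⟩

/-- `O/I ⊗ O/J ≅ O/(I + J)`. -/
theorem nonempty_iso (I J : X.IdealSheafData) :
    Nonempty (CohB1.tensorMod (ClSub.quotMod I) (ClSub.quotMod J) ≅ ClSub.quotMod (I ⊔ J)) := by
  haveI : Epi (ClSub.toSubscheme I) := CurvePoint.epi_toSubscheme I
  let m := (DCoh.tensorBi (X := X)).map (ClSub.toSubscheme I)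
  haveI : Epi (m.app (ClSub.idealMod J)) :=
    inferInstanceAs (Epi (((DCoh.tensorBi (X := X)).flip.obj (ClSub.idealMod J)).map (ClSub.toSubscheme I)))
  exact iso_gen I J m (((KFlatLib.tensorBiFlipIso X).app O_).symm ≪≫ KFlatLib.tensorStructureIso X)
    (AmpleVan.twUnit.app (ClSub.quotMod I)) (AmpleVan.twUnit.app O_)
    ((AmpleVan.twUnit (X := X)).hom.naturality (ClSub.toSubscheme I)).symm

end Groth.Agent.IntSym.QuotTensor
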