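import Groth.Agent.IntSym.Basic
import Groth.Agent.Snapper.DimVanish
import Groth.Agent.Snapper.Multi
import Groth.Agent.AVDegPoly.Vol
import Groth.Agent.AmpleVan.Uniform
import Groth.Prelude.Def_FGA
import Groth.Prelude.Def_Pic13

/-! The prelude's intersection numbers as symbols. -/

noncomputable section

set_option linter.style.haveILetI false
set_option linter.unusedSectionVars false
set_option backward.isDefEq.respectTransparency false
set_option backward.isDefEq.respectTransparency.types false

universe u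

open CategoryTheory CategoryTheory.Limits AlgebraicGeometry TopologicalSpace
open Groth.Agent.H23.PicMul

namespace Groth.Agent.IntSym

variable {X : Scheme.{u}} (k : Type u) [Field k] [X.Over (Spec (CommRingCat.of k))]
  [IsProper (X ↘ Spec (CommRingCat.of k))]

theorem eulerCharLE_eq_euler {d : ℕ} (hd : topologicalKrullDim X ≤ (d : WithBot ℕ∞)) {F : X.Modules}
    (hF : Coh.IsQCoh F) : FGA.eulerCharLE k X F d = Curv2.euler k X F := by
  haveI := CurveCohLib.isNoetherian_of_proper (k := k) (X := X)
  haveI : X.IsSeparated := AmpleVan.isSeparated_of_proper (A := k)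
  rw [CurveCohLib.euler_eq_sum (k := k) (N := d + 1) fun i hi =>
    Snapper.subsingleton_HH_of_dim_le hd hF (by omega)]
  rfl

theorem cl_tensorList : ∀ l : List X.Modules, PicF.cl (FGA.tensorList l) = (l.map PicF.cl).prod
  | [] => by simp only [FGA.tensorList, List.map_nil, List.prod_nil]; exact one_def.symm
  | A :: l => by
    simp only [FGA.tensorList, List.map_cons, List.prod_cons, cl_tensor, cl_tensorList l]

theorem cl_multiTwist {r : ℕ} (M : Fin r → X.Modules) (n : Fin r → ℕ) :
    PicF.cl (FGA.multiTwist M n) = ∏ i, PicF.cl (M i) ^ n i := by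
  rw [FGA.multiTwist, cl_tensorList, List.map_map, Fin.prod_univ_def]
  exact congrArg List.prod (List.map_congr_left fun i _ => cl_tensorPow _ _)

/-- The points of the cube as subsets. -/
def cubeEquiv (r : ℕ) : (Fin r → Fin 2) ≃ Finset (Fin r) where
  toFun x := Finset.univ.filter fun i => x i = 1
  invFun I i := if i ∈ I then 1 else 0
  left_inv x := funext fun i => by
    rcases Fin.exists_fin_two.1 ⟨x i, rfl⟩ with h | h <;> simp [h]
  right_inv I := by ext i; simp

theorem sort_term {r : ℕ} (M : Fin r → X.Modules) (F : X.Modules) (I : Finset (Fin r)) :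
    Nonempty (CohB1.tensorMod (FGA.tensorList ((I.sort (· ≤ ·)).map M)) F ≅
      Curv2.tensorPows F r M (fun i => if i ∈ I then 1 else 0)) := by
  obtain ⟨e⟩ := Snapper.multiTwist_iso M (fun i => if i ∈ I then 1 else 0) F
  obtain ⟨a⟩ : Nonempty (FGA.tensorList ((I.sort (· ≤ ·)).map M) ≅
      FGA.multiTwist M (fun i => if i ∈ I then 1 else 0)) := cl_eq_iff.1 (by
    rw [cl_tensorList, cl_multiTwist, List.map_map]
    simp only [Function.comp_def, pow_ite, pow_one, pow_zero, Finset.prod_ite_mem, Finset.univ_inter]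
    refine Eq.trans (List.prod_toFinset (fun i => PicF.cl (M i)) (Finset.sort_nodup I (· ≤ ·))).symm ?_
    rw [Finset.sort_toFinset])
  exact ⟨PicGrp.tensorModIso a (Iso.refl F) ≪≫ e⟩

/-- The intersection number as a symbol. -/
theorem intNum_eq {d r : ℕ} (hd : topologicalKrullDim X ≤ (d : WithBot ℕ∞)) (M : Fin r → X.Modules)
    (hM : ∀ i, PicF.IsInvertible (M i)) {F : X.Modules} (hF : Coh.IsCoh F) :
    FGA.intNum k X d M F = (-1) ^ r * sym k (List.ofFn M) F := by
  haveI := CurveCohLib.isNoetherian_of_proper (k := k) (X := X)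
  have key : (FGA.intNum k X d M F : ℚ) = (-1) ^ r * IntNum.alt (Snapper.χs k M F) := by
    unfold FGA.intNum IntNum.alt IntNum.sgn Snapper.χs
    push_cast
    rw [Finset.mul_sum, ← (cubeEquiv r).sum_comp]
    refine Finset.sum_congr rfl fun x _ => ?_
    have hterm : FGA.eulerCharLE k X (CohB1.tensorMod (FGA.tensorList (((cubeEquiv r x).sort (· ≤ ·)).map M)) F) d =
        Curv2.euler k X (Curv2.tensorPows F r M (fun i => (x i : ℕ))) := by
      obtain ⟨e⟩ := sort_term M F (cubeEquiv r x)
      have hfun : (fun i => if i ∈ cubeEquiv r x then 1 else 0 : Fin r → ℕ) = fun i => (x i : ℕ) := by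
        funext i
        rcases Fin.exists_fin_two.1 ⟨x i, rfl⟩ with h | h <;> simp [cubeEquiv, h]
      rw [hfun] at e
      have hc := Snapper.isCoh_tensorPows M hM (fun i => (x i : ℕ)) hF
      rw [eulerCharLE_eq_euler k hd ((QCoh.isQCoh_iff_iso e).2 hc.1), CurveCohLib.euler_congr (k := k) e]
    rw [hterm, ← mul_assoc]
    congr 1
    rw [show (-1 : ℚ) ^ r = ∏ _i : Fin r, (-1 : ℚ) by simp, ← Finset.prod_mul_distrib,
      show (cubeEquiv r x).card = (Finset.univ.filter fun i => x i = 1).card from rfl, ← Finset.prod_const,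
      Finset.prod_filter]
    refine Finset.prod_congr rfl fun i _ => ?_
    rcases Fin.exists_fin_two.1 ⟨x i, rfl⟩ with h | h <;> simp [h]
  rw [alt_eq_sym k M hM F] at key
  exact_mod_cast key

theorem sym_singleton (L F : X.Modules) :
    sym k [L] F = Curv2.euler k X (CohB1.tensorMod F L) - Curv2.euler k X F := rfl

/-- Degrees on curves as symbols. -/
theorem curveDeg_eq {Z : Scheme.{u}} (i : Z ⟶ X) [IsClosedImmersion i]
    (hZ : topologicalKrullDim Z = 1) {L : X.Modules} (hL : PicF.IsInvertible L) :
    Pic13.curveDeg k (i ≫ (X ↘ Spec (CommRingCat.of k))) ((Scheme.Modules.pullback i).obj L) =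
      sym k [L] ((Coh.push i).obj (Coh.structureModule Z)) := by
  letI : Z.Over (Spec (CommRingCat.of k)) := ⟨i ≫ (X ↘ Spec (CommRingCat.of k))⟩
  haveI : IsProper (Z ↘ Spec (CommRingCat.of k)) :=
    show IsProper (i ≫ (X ↘ Spec (CommRingCat.of k))) from inferInstance
  haveI := CurveCohLib.isNoetherian_of_proper (k := k) (X := X)
  have h := IntNum.deg_pullback_closed k i rfl (AmpleVan.isCoh_invertible hL).1 1
  rw [Nat.cast_one, one_mul] at h
  rw [sym_singleton, ← h]
  have hd : topologicalKrullDim Z ≤ ((1 : ℕ) : WithBot ℕ∞) := by rw [Nat.cast_one]; exact hZ.le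
  show FGA.eulerCharLE k Z _ 1 - FGA.eulerCharLE k Z _ 1 = _
  rw [eulerCharLE_eq_euler k hd (QCoh.isQCoh_pullback i (AmpleVan.isCoh_invertible hL).1),
    eulerCharLE_eq_euler k hd QCoh.isQCoh_structureModule]
  simp [Curv2.deg]

end Groth.Agent.IntSym
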