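import Groth.Agent.IntSym.Num
import Groth.Agent.LerayEuler.Pullback
import Groth.Agent.NakaiMo.Main
import Groth.Agent.CycLib.Finite

/-! Degrees on curves along morphisms. -/

noncomputable section

set_option linter.style.haveILetI false
set_option linter.unusedSectionVars false
set_option backward.isDefEq.respectTransparency false
set_option backward.isDefEq.respectTransparency.types false

universe u

open CategoryTheory CategoryTheory.Limits AlgebraicGeometry TopologicalSpace
open Groth.Agent.H23.PicMul

namespace Groth.Agent.IntSym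

variable (k : Type u) [Field k] {X X' : Scheme.{u}} [X.Over (Spec (CommRingCat.of k))]
  [IsProper (X ↘ Spec (CommRingCat.of k))] [X'.Over (Spec (CommRingCat.of k))]
  [IsProper (X' ↘ Spec (CommRingCat.of k))]

/-- The degree of a pullback on a curve is a multiple of the degree on its image. -/
theorem sym_pullback_curve (f : X' ⟶ X) (hf : f ≫ (X ↘ Spec (CommRingCat.of k)) = X' ↘ Spec (CommRingCat.of k))
    {L : X.Modules} (hL : PicF.IsInvertible L) {Z : Scheme.{u}} (i : Z ⟶ X') [IsClosedImmersion i] [IsIntegral Z]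
    (hZ : topologicalKrullDim Z = 1) :
    sym k [(Scheme.Modules.pullback f).obj L] ((Coh.push i).obj (Coh.structureModule Z)) =
      ((i ≫ f).residueDegree (genericPoint Z) : ℤ) * sym k [L] (ClSub.quotMod (i ≫ f).ker) ∧
    IsIntegral (i ≫ f).ker.subscheme ∧
    topologicalKrullDim (i ≫ f).ker.subscheme ≤ ((1 : ℕ) : WithBot ℕ∞) := by
  haveI := CurveCohLib.isNoetherian_of_proper (k := k) (X := X)
  haveI := CurveCohLib.isNoetherian_of_proper (k := k) (X := X')
  letI : Z.Over (Spec (CommRingCat.of k)) := ⟨i ≫ (X' ↘ Spec (CommRingCat.of k))⟩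
  haveI : IsProper (Z ↘ Spec (CommRingCat.of k)) :=
    show IsProper (i ≫ (X' ↘ Spec (CommRingCat.of k))) from inferInstance
  haveI := CurveCohLib.isNoetherian_of_proper (k := k) (X := Z)
  have hg : (i ≫ f) ≫ (X ↘ Spec (CommRingCat.of k)) = Z ↘ Spec (CommRingCat.of k) := by
    rw [Category.assoc, hf]; rfl
  haveI : IsProper (i ≫ f) := LerayEuler.isProper_f k (i ≫ f) hg
  have hZ1 : topologicalKrullDim Z = ((1 : ℕ) : WithBot ℕ∞) := hZ
  obtain ⟨hd, h⟩ := LerayEuler.alt_pullback_integral k (i ≫ f) hg hZ1 (fun _ : Fin 1 => L) (fun _ => hL)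
  obtain ⟨hI, hgen⟩ := H23.P1Graph.image_integral (i ≫ f)
  refine ⟨?_, hI, ?_⟩
  · rw [alt_eq_sym k (fun _ : Fin 1 => (Scheme.Modules.pullback (i ≫ f)).obj L)
      (fun _ => PicClLib.isInvertible_pullback _ hL), alt_eq_sym k (fun _ : Fin 1 => L) (fun _ => hL),
      List.ofFn_const, List.ofFn_const, List.replicate_one, List.replicate_one] at h
    have h' : sym k [(Scheme.Modules.pullback (i ≫ f)).obj L] (Coh.structureModule Z) =
        ((i ≫ f).residueDegree (genericPoint Z) : ℤ) * sym k [L] (ClSub.quotMod (i ≫ f).ker) := by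
      exact_mod_cast h
    rw [← h']
    have e : (Scheme.Modules.pullback i).obj ((Scheme.Modules.pullback f).obj L) ≅
        (Scheme.Modules.pullback (i ≫ f)).obj L := (Scheme.Modules.pullbackComp i f).app L
    rw [← sym_congr_head k e (List.forall_mem_nil _)]
    exact (NakaiMo.mult_push k i rfl (PicClLib.isInvertible_pullback f hL) QCoh.isCoh_structureModule' 1).symm
  · refine le_trans ?_ hd
    rw [dim_eq_of_range (i ≫ f).ker.subschemeι rfl]
    refine H23.TopDim.dim_le_dim_of_subset ?_
    haveI := hI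
    rintro _ ⟨z, rfl⟩ hz
    haveI : Subsingleton ((ClSub.quotMod (i ≫ f).ker).presheaf.stalk ((i ≫ f).ker.subschemeι z)) := hz
    have h1 := H23.ClosedPushLen.length_stalk (i ≫ f).ker.subschemeι (Coh.structureModule (i ≫ f).ker.subscheme) z
    rw [Module.length_eq_zero, H23.ClosedPushLen.length_structureModule] at h1
    exact absurd (Module.length_eq_zero_iff.1 h1.symm) (not_subsingleton _)

/-- Pullback preserves nonnegativity on curves. -/
theorem sym_pullback_nonneg (f : X' ⟶ X) (hf : f ≫ (X ↘ Spec (CommRingCat.of k)) = X' ↘ Spec (CommRingCat.of k))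
    {L : X.Modules} (hL : PicF.IsInvertible L)
    (hnef : ∀ (W : Scheme.{u}) (j : W ⟶ X) [IsClosedImmersion j] [IsIntegral W], topologicalKrullDim W = 1 →
      0 ≤ sym k [L] ((Coh.push j).obj (Coh.structureModule W)))
    {Z : Scheme.{u}} (i : Z ⟶ X') [IsClosedImmersion i] [IsIntegral Z] (hZ : topologicalKrullDim Z = 1) :
    0 ≤ sym k [(Scheme.Modules.pullback f).obj L] ((Coh.push i).obj (Coh.structureModule Z)) := by
  obtain ⟨h, hI, hd⟩ := sym_pullback_curve k f hf hL i hZ
  haveI := CurveCohLib.isNoetherian_of_proper (k := k) (X := X)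
  haveI := hI
  rw [h]
  refine mul_nonneg (Int.natCast_nonneg _) ?_
  rcases hd.lt_or_eq with hlt | heq
  · rw [sym_eq_zero k (List.forall_mem_singleton.2 hL) (QCoh.isCoh_push_structure (i ≫ f).ker.subschemeι) ?_]
    refine lt_of_le_of_lt ?_ hlt
    exact dim_push_le _ QCoh.isQCoh_structureModule le_rfl
  · exact hnef _ (i ≫ f).ker.subschemeι heq

/-- Numerical equivalence pulls back. -/
theorem NumEq.pullback (f : X' ⟶ X) (hf : f ≫ (X ↘ Spec (CommRingCat.of k)) = X' ↘ Spec (CommRingCat.of k))
    {L N : X.Modules} (hL : PicF.IsInvertible L) (hN : PicF.IsInvertible N) (hnum : NumEq k L N) :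
    NumEq k ((Scheme.Modules.pullback f).obj L) ((Scheme.Modules.pullback f).obj N) := by
  intro Z i _ _ hZ
  obtain ⟨h₁, hI, hd⟩ := sym_pullback_curve k f hf hL i hZ
  obtain ⟨h₂, -, -⟩ := sym_pullback_curve k f hf hN i hZ
  haveI := CurveCohLib.isNoetherian_of_proper (k := k) (X := X)
  haveI := hI
  rw [h₁, h₂]
  refine congrArg (_ * ·) ?_
  rcases hd.lt_or_eq with hlt | heq
  · have h0 : HilbPoly.DimLT (ClSub.quotMod (i ≫ f).ker) 1 := lt_of_le_of_lt
      (dim_push_le _ QCoh.isQCoh_structureModule le_rfl) hlt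
    rw [sym_eq_zero k (List.forall_mem_singleton.2 hL) (QCoh.isCoh_push_structure _) h0,
      sym_eq_zero k (List.forall_mem_singleton.2 hN) (QCoh.isCoh_push_structure _) h0]
  · exact hnum _ (i ≫ f).ker.subschemeι heq

/-- A curve in the image of a surjection is dominated by a curve. -/
theorem exists_curve_over (f : X' ⟶ X) (hf : f ≫ (X ↘ Spec (CommRingCat.of k)) = X' ↘ Spec (CommRingCat.of k))
    [Surjective f] {W : Scheme.{u}} (j : W ⟶ X) [IsClosedImmersion j] [IsIntegral W]
    (hW : topologicalKrullDim W = 1) :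
    ∃ (Z : Scheme.{u}) (i : Z ⟶ X') (_ : IsClosedImmersion i) (_ : IsIntegral Z), topologicalKrullDim Z = 1 ∧
      0 < (i ≫ f).residueDegree (genericPoint Z) ∧
      Nonempty (ClSub.quotMod (i ≫ f).ker ≅ (Coh.push j).obj (Coh.structureModule W)) := by
  haveI := CurveCohLib.isNoetherian_of_proper (k := k) (X := X)
  haveI := CurveCohLib.isNoetherian_of_proper (k := k) (X := X')
  let p := X ↘ Spec (CommRingCat.of k)
  let p' := X' ↘ Spec (CommRingCat.of k)
  haveI : IsProper f := LerayEuler.isProper_f k f hf
  let η := j (genericPoint W)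
  have hη : VarDim.deg p η = 1 := by
    have h := VarDim.topologicalKrullDim_closure_singleton p η
    rw [← QCoh.range_eq_closure j, ← dim_eq_of_range j rfl, hW] at h
    exact_mod_cast h.symm
  obtain ⟨z, hz, hz0⟩ := VarDim.exists_fdeg_eq_zero f (y := η) (Surjective.surj η)
  have hzd : VarDim.deg p' z = 1 := by rw [VarDim.deg_eq_add f p hf z, hz, hη, hz0]
  let I := IntNum.ptIdeal z
  haveI : IsIntegral I.subscheme := QCoh.isIntegral_closure_point z
  have hr : Set.range I.subschemeι = closure ({z} : Set X') := IntNum.range_ptIdeal z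
  have hgz : I.subschemeι (genericPoint I.subscheme) = z :=
    ((show Specializes (I.subschemeι (genericPoint I.subscheme)) z from specializes_iff_mem_closure.2
      ((QCoh.range_eq_closure I.subschemeι).le (hr.ge (subset_closure rfl)))).antisymm
    (specializes_iff_mem_closure.2 (hr.le ⟨_, rfl⟩))).eq
  refine ⟨I.subscheme, I.subschemeι, inferInstance, inferInstance, ?_, ?_, ?_⟩
  · rw [dim_eq_of_range I.subschemeι hr, VarDim.topologicalKrullDim_closure_singleton p' z, hzd]
    rfl
  · let g := I.subschemeι ≫ f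
    have hrd : FibDim.rd g (genericPoint I.subscheme) = 0 := by
      have h1 := FibDim.rd_eq_rdeg g (genericPoint I.subscheme)
      rw [VarDim.rdeg_comp, VarDim.rdeg_preimmersion I.subschemeι, add_zero, hgz, ← VarDim.fdeg_eq_rdeg f p, hz0] at h1
      exact_mod_cast h1
    have hfin := CycLib.finite_residueFieldMap_of_rd_eq_zero g _ hrd
    letI := (g.residueFieldMap (genericPoint I.subscheme)).hom.toAlgebra
    haveI : Module.Finite (X.residueField (g (genericPoint I.subscheme)))
        (I.subscheme.residueField (genericPoint I.subscheme)) := hfin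
    show 0 < Module.finrank (X.residueField (g (genericPoint I.subscheme)))
      (I.subscheme.residueField (genericPoint I.subscheme))
    exact Module.finrank_pos
  · haveI : IsProper (I.subschemeι ≫ f) := inferInstance
    obtain ⟨hI, hgen⟩ := H23.P1Graph.image_integral (I.subschemeι ≫ f)
    haveI := hI
    refine (QCoh.push_structure_iso (I.subschemeι ≫ f).ker.subschemeι j ?_).map Iso.symm
    rw [QCoh.range_eq_closure j, QCoh.range_eq_closure (I.subschemeι ≫ f).ker.subschemeι, hgen]
    show closure ({j (genericPoint W)} : Set X) = closure {f (I.subschemeι (genericPoint I.subscheme))}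
    rw [hgz, hz]

end Groth.Agent.IntSym
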