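import Groth.Agent.IntSym.Pushforward
import Groth.Agent.IntSym.Bridge

/-! Symbols of pullbacks against direct images. -/

noncomputable section

set_option linter.style.haveILetI false
set_option linter.unusedSectionVars false
set_option backward.isDefEq.respectTransparency false
set_option backward.isDefEq.respectTransparency.types false
set_option maxHeartbeats 1000000

universe u

open CategoryTheory CategoryTheory.Limits AlgebraicGeometry TopologicalSpace Opposite
open Groth.Agent.H23.PicMul

attribute [local instance] HasDerivedCategory.standard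

namespace Groth.Agent.IntSym

variable {k : Type u} [Field k] {X : Scheme.{u}} (p : X ⟶ Spec (CommRingCat.of k)) [LocallyOfFiniteType p]

theorem deg_le_of_mem {C : Set X} (hC : IsClosed C) {r : ℕ} (hd : topologicalKrullDim ↥C ≤ (r : WithBot ℕ∞))
    {x : X} (hx : x ∈ C) : VarDim.deg p x ≤ r := by
  have h := (H23.TopDim.dim_le_dim_of_subset
    (hC.closure_subset_iff.2 (Set.singleton_subset_iff.2 hx))).trans hd
  rw [VarDim.topologicalKrullDim_closure_singleton p x] at h
  exact_mod_cast h

theorem dim_le_of_deg {C : Set X} (hC : IsClosed C) {r : ℕ} (h : ∀ x ∈ C, VarDim.deg p x ≤ r) :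
    topologicalKrullDim ↥C ≤ (r : WithBot ℕ∞) := by
  refine H23.TopDim.dim_le fun s => ?_
  let q : LTSeries (IrreducibleCloseds X) :=
    s.map _ (IrreducibleCloseds.map_strictMono_of_isInducing
      (Topology.IsInducing.subtypeVal : Topology.IsInducing (Subtype.val : C → X)))
  have hl : (q.last : Set X) ⊆ C := by
    intro x hx
    rw [LTSeries.last_map] at hx
    exact closure_minimal (Subtype.coe_image_subset C _) hC hx
  obtain ⟨g, hg⟩ := QuasiSober.sober q.last.isIrreducible q.last.isClosed
  refine (H23.TopDim.length_le_dim_subset q (S := closure ({g} : Set X)) hg.def.ge).trans ?_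
  rw [VarDim.topologicalKrullDim_closure_singleton p g]
  exact_mod_cast h g (hl hg.mem)

theorem finite_top_degree [NoetherianSpace X] {C : Set X} (hC : IsClosed C) {r : ℕ}
    (h : ∀ x ∈ C, VarDim.deg p x ≤ r) : {x ∈ C | VarDim.deg p x = r}.Finite := by
  obtain ⟨S, hS, hcl, hirr, hU⟩ := NoetherianSpace.exists_finite_set_isClosed_irreducible (α := X) hC
  refine (hS.biUnion (t := fun t => {g | IsGenericPoint g t}) fun t _ => ?_).subset ?_
  · exact (show ({g | IsGenericPoint g t} : Set X).Subsingleton from fun a ha b hb => ha.eq hb).finite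
  · rintro x ⟨hxC, hxr⟩
    obtain ⟨t, ht, hxt⟩ := hU.le hxC
    obtain ⟨g, hg⟩ := QuasiSober.sober (hirr t ht) (hcl t ht)
    have hgC : g ∈ C := hU.ge ⟨t, ht, hg.mem⟩
    have : g = x := VarDim.eq_of_specializes_of_deg_le (p := p) (hg.specializes hxt)
      ((h g hgC).trans hxr.ge)
    exact Set.mem_biUnion ht (this ▸ hg)

end Groth.Agent.IntSym

namespace Groth.Agent.IntSym

variable (k : Type u) [Field k] {X Y : Scheme.{u}} [X.Over (Spec (CommRingCat.of k))]
  [Y.Over (Spec (CommRingCat.of k))]
  [IsProper (X ↘ Spec (CommRingCat.of k))] [IsProper (Y ↘ Spec (CommRingCat.of k))]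

theorem support_R0_subset (f : Y ⟶ X) [IsProper f] [HasInjectiveResolutions Y.Modules] [IsNoetherian Y]
    {M : Y.Modules} (hM : Coh.IsCoh M) :
    CohB1.support ((Coh.Rpush f 0).obj M) ⊆ f '' CohB1.support M := by
  intro y hy
  by_contra hyT
  have hT : IsClosed (f '' CohB1.support M) := f.isClosedMap _ (QCoh.isClosed_support_of_isFT hM.1 hM.2)
  haveI := SpObjSS.enoughInjectives_of_hasInjectiveResolutions (C := Y.Modules)
  haveI := QCoh.preservesFiniteLimits_push f
  let e := (Scheme.Modules.pushforward f).rightDerivedZeroIsoSelf.app M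
  refine hy (subsingleton_of_forall_eq 0 fun t => ?_)
  obtain ⟨W, hyW, s, rfl⟩ := ((Coh.Rpush f 0).obj M).presheaf.germ_exist t
  let W' : X.Opens := W ⊓ ⟨(f '' CohB1.support M)ᶜ, hT.isOpen_compl⟩
  haveI : Subsingleton Γ((Coh.Rpush f 0).obj M, W') := by
    haveI : Subsingleton Γ((Scheme.Modules.pushforward f).obj M, W') :=
      subsingleton_of_forall_eq 0 fun a =>
        TopCat.Presheaf.section_ext ⟨M.presheaf, M.isSheaf⟩ _ _ _ fun z hz => by
          haveI : Subsingleton (M.presheaf.stalk z) := not_not.1 fun h => hz.2 ⟨z, h, rfl⟩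
          exact Subsingleton.elim _ _
    exact (ConcreteCategory.bijective_of_isIso (e.hom.app W')).1.subsingleton
  rw [← ((Coh.Rpush f 0).obj M).presheaf.germ_res_apply (homOfLE (inf_le_left : W' ≤ W)) y ⟨hyW, hyT⟩ s]
  exact (congrArg _ (Subsingleton.elim _ (0 : Γ((Coh.Rpush f 0).obj M, W')))).trans (map_zero _)

/-- The projection formula for symbols. -/
theorem sym_pullback_push (f : Y ⟶ X) (hf : f ≫ (X ↘ Spec (CommRingCat.of k)) = Y ↘ Spec (CommRingCat.of k))
    {r : ℕ} (M : Fin r → X.Modules) (hM : ∀ i, PicF.IsInvertible (M i)) {F : Y.Modules} (hF : Coh.IsCoh F)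
    (hr : topologicalKrullDim ↥(CohB1.support F) ≤ (r : WithBot ℕ∞)) :
    sym k (List.ofFn fun i => (Scheme.Modules.pullback f).obj (M i)) F =
      sym k (List.ofFn M) ((Coh.push f).obj F) ∧ Coh.IsCoh ((Coh.push f).obj F) := by
  haveI : HasInjectiveResolutions Y.Modules := KFlatLib.hasInjectiveResolutions_modules
  haveI := CurveCohLib.isNoetherian_of_proper (k := k) (X := X)
  haveI := CurveCohLib.isNoetherian_of_proper (k := k) (X := Y)
  haveI : IsProper f := LerayEuler.isProper_f k f hf
  haveI := SpObjSS.enoughInjectives_of_hasInjectiveResolutions (C := Y.Modules)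
  haveI := QCoh.preservesFiniteLimits_push f
  let p := X ↘ Spec (CommRingCat.of k)
  let q := Y ↘ Spec (CommRingCat.of k)
  have hT := QCoh.isClosed_support_of_isFT hF.1 hF.2
  have hzero : ∀ i, sym k (List.ofFn M) ((Coh.Rpush f (i + 1)).obj F) = 0 := fun i => by
    have hl : Inv (List.ofFn M) := fun N hN => by
      obtain ⟨i, rfl⟩ := List.mem_ofFn.1 hN
      exact hM i
    have hR := LerayEuler.isCoh_R k f hf F hF (i + 1)
    refine sym_eq_zero k hl hR ?_
    rw [List.length_ofFn]
    have hlt : ∀ x ∈ CohB1.support ((Coh.Rpush f (i + 1)).obj F), VarDim.deg p x < r := fun x hx => by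
      by_contra hge
      refine notMem_support_Rpush_of_finite f hF ?_ i hx
      refine (finite_top_degree q hT fun z hz => deg_le_of_mem q hT hr hz).subset fun z hz => ⟨hz.2, ?_⟩
      have h1 := deg_le_of_mem q hT hr hz.2
      have h2 : VarDim.deg q z = VarDim.deg p x + VarDim.fdeg f z := by
        rw [show x = f z from hz.1.symm]
        exact VarDim.deg_eq_add f p hf z
      show VarDim.deg q z = r
      omega
    rcases r with _ | r'
    · have he : CohB1.support ((Coh.Rpush f (i + 1)).obj F) = ∅ :=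
        Set.eq_empty_of_forall_notMem fun x hx => absurd (hlt x hx) (Nat.not_lt_zero _)
      show topologicalKrullDim ↥(CohB1.support ((Coh.Rpush f (i + 1)).obj F)) < _
      rw [he]
      haveI : IsEmpty (IrreducibleCloseds ↥(∅ : Set X)) :=
        ⟨fun t => t.2.1.ne_empty (Set.eq_empty_of_isEmpty t.1)⟩
      rw [topologicalKrullDim, Order.krullDim_eq_bot_iff.2 ‹_›]
      exact WithBot.bot_lt_coe _
    · exact HilbPoly.lt_succ_of_le (dim_le_of_deg p (QCoh.isClosed_support_of_isFT hR.1 hR.2)
        fun x hx => Nat.lt_succ_iff.1 (hlt x hx))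
  let e := (Scheme.Modules.pushforward f).rightDerivedZeroIsoSelf.app F
  have h0 : Coh.IsCoh ((Coh.push f).obj F) := by
    have h := LerayEuler.isCoh_R k f hf F hF 0
    haveI : Mono e.inv := inferInstance
    exact QCoh.isCoh_of_mono e.inv h ((QCoh.isQCoh_iff_iso e).1 h.1)
  refine ⟨?_, h0⟩
  obtain ⟨N, hN, h⟩ := LerayEuler.alt_pullback k f hf hF
  have h' := h r M hM
  rw [alt_eq_sym k _ (fun i => PicClLib.isInvertible_pullback f (hM i))] at h'
  obtain ⟨N', rfl⟩ : ∃ N', N = N' + 1 := ⟨N - 1, by omega⟩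
  rw [Finset.sum_range_succ'] at h'
  simp only [alt_eq_sym k M hM, hzero, Int.cast_zero, mul_zero, Finset.sum_const_zero, zero_add, pow_zero,
    one_mul] at h'
  have hl : Inv (List.ofFn M) := fun N hN => by
    obtain ⟨i, rfl⟩ := List.mem_ofFn.1 hN
    exact hM i
  have he : sym k (List.ofFn M) ((Coh.Rpush f 0).obj F) = sym k (List.ofFn M) ((Coh.push f).obj F) :=
    sym_iso k hl e
  rw [← he]
  exact_mod_cast h'

end Groth.Agent.IntSym
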