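import Groth.Agent.IntSym.QuotTensor
import Groth.Agent.IntSym.Bridge
import Groth.Agent.H1CMDim.RegSeq
import Groth.Agent.VarDim.Local
import Groth.Agent.VarDim.IrredFibres
import Groth.Agent.CurveCohLib.Proper

/-! Two effective Cartier divisors with finite intersection on a Cohen–Macaulay surface. -/

noncomputable section

set_option linter.style.haveILetI false
set_option backward.isDefEq.respectTransparency false
set_option backward.isDefEq.respectTransparency.types false

universe u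

open CategoryTheory CategoryTheory.Limits AlgebraicGeometry TopologicalSpace IsLocalRing

namespace Groth.Agent.IntSym.TwoCartier

variable {X : Scheme.{u}}

theorem exists_germ {D : X.IdealSheafData} (hD : BlowUp.IsEffCartierIdeal D) (x : X) :
    ∃ (U : X.Opens) (hU : IsAffineOpen U) (hx : x ∈ U) (f : Γ(X, U)), D.ideal ⟨U, hU⟩ = Ideal.span {f} ∧
      f ∈ nonZeroDivisors Γ(X, U) ∧ IsSMulRegular (X.presheaf.stalk x) (X.presheaf.germ U x hx f) := by
  obtain ⟨U, hx, f, hf, hI⟩ := hD x
  refine ⟨U.1, U.2, hx, f, hI, hf, ?_⟩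
  letI := QCoh.stalkAlg (X := X) hx
  haveI := QCoh.isLocalization_stalk' U.2 hx
  have hm : algebraMap Γ(X, U.1) (X.presheaf.stalk x) f ∈ nonZeroDivisors (X.presheaf.stalk x) :=
    IsLocalization.map_nonZeroDivisors_le (U.2.primeIdealOf ⟨x, hx⟩).asIdeal.primeCompl (X.presheaf.stalk x)
      ⟨f, hf, rfl⟩
  intro a b hab
  exact (mul_cancel_left_mem_nonZeroDivisors hm).1 hab

theorem notMem_iff {D : X.IdealSheafData} {U : X.Opens} (hU : IsAffineOpen U) {f : Γ(X, U)}
    (hI : D.ideal ⟨U, hU⟩ = Ideal.span {f}) {x : X} (hx : x ∈ U) (P : PrimeSpectrum (X.presheaf.stalk x)) :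
    X.fromSpecStalk x P ∈ D.support ↔ X.presheaf.germ U x hx f ∈ P.asIdeal := by
  rw [← hU.fromSpecStalk_eq_fromSpecStalk hx]
  have hmem : hU.fromSpecStalk hx P ∈ U := by
    rw [IsAffineOpen.fromSpecStalk, Scheme.Hom.comp_apply, ← SetLike.mem_coe, ← hU.range_fromSpec]
    exact ⟨_, rfl⟩
  rw [Scheme.IdealSheafData.mem_support_iff_of_mem (U := ⟨U, hU⟩) hmem, hI, Scheme.zeroLocus_span,
    Scheme.mem_zeroLocus_iff]
  simp only [Set.mem_singleton_iff, forall_eq]
  rw [IsAffineOpen.fromSpecStalk, Scheme.Hom.comp_apply]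
  change ¬ (Spec.map (X.presheaf.germ U x hx) P ∈ hU.fromSpec ⁻¹ᵁ X.basicOpen f) ↔ _
  rw [hU.fromSpec_preimage_basicOpen]
  exact not_not

theorem mem_support_iff {D : X.IdealSheafData} {U : X.Opens} (hU : IsAffineOpen U) {f : Γ(X, U)}
    (hI : D.ideal ⟨U, hU⟩ = Ideal.span {f}) {x : X} (hx : x ∈ U) :
    x ∈ D.support ↔ X.presheaf.germ U x hx f ∈ maximalIdeal (X.presheaf.stalk x) := by
  have h := notMem_iff hU hI hx (closedPoint (X.presheaf.stalk x))
  rwa [Scheme.fromSpecStalk_closedPoint] at h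

theorem isAssPoint_iso {M N : X.Modules} (e : M ≅ N) {x : X} (h : Curv2.IsAssPoint M x) : Curv2.IsAssPoint N x :=
  IsAssociatedPrime.map_of_injective (f := (((DerSch.stalkFunctor X x).mapIso e).toLinearEquiv).toLinearMap)
    h (LinearEquiv.injective _)

theorem not_assPoint_structure {D : X.IdealSheafData} (hD : BlowUp.IsEffCartierIdeal D) {x : X} (hx : x ∈ D.support) :
    ¬ Curv2.IsAssPoint (Coh.structureModule X) x := by
  intro hass
  obtain ⟨U, hU, hxU, f, hI, hfnzd, hreg⟩ := exists_germ hD x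
  obtain ⟨-, y, hy⟩ := hass
  rw [AssPtX.colon_bot_singleton] at hy
  letI := QCoh.stalkAlg (X := X) hxU
  letI := QCoh.stalkModule (Coh.structureModule X) hxU
  haveI := QCoh.isScalarTower_stalk (Coh.structureModule X) hxU
  haveI := QCoh.isLocalization_stalk' hU hxU
  haveI := QCoh.isLocalizedModule_germLin (M := Coh.structureModule X) QCoh.isQCoh_structureModule hU hxU
  have hf : X.presheaf.germ U x hxU f ∈ maximalIdeal (X.presheaf.stalk x) := (mem_support_iff hU hI hxU).1 hx
  rw [hy] at hf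
  obtain ⟨n, hn⟩ := hf
  obtain ⟨⟨m, s⟩, hms⟩ := IsLocalizedModule.surj (hU.primeIdealOf ⟨x, hxU⟩).asIdeal.primeCompl
    (QCoh.germLin (Coh.structureModule X) hxU) y
  have hn' : (f ^ n) • y = 0 := by
    rw [← algebraMap_smul (X.presheaf.stalk x) (f ^ n) y, map_pow]
    exact WeakAss.mem_annEl.1 hn
  have h1 : QCoh.germLin (Coh.structureModule X) hxU (f ^ n • m) = 0 := by
    rw [map_smul, ← hms, smul_comm, hn', smul_zero]
  obtain ⟨t, ht⟩ := (IsLocalizedModule.eq_zero_iff (hU.primeIdealOf ⟨x, hxU⟩).asIdeal.primeCompl _).1 h1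
  have h2 : (f ^ n) * ((t : Γ(X, U)) * (show Γ(X, U) from m)) = 0 := by
    rw [mul_left_comm]; exact ht
  have h3 : (t : Γ(X, U)) * (show Γ(X, U) from m) = 0 :=
    (mul_left_mem_nonZeroDivisors_eq_zero_iff (pow_mem hfnzd n)).1 h2
  have hy0 : y = 0 := by
    have h4 : QCoh.germLin (Coh.structureModule X) hxU m = 0 :=
      (IsLocalizedModule.eq_zero_iff (hU.primeIdealOf ⟨x, hxU⟩).asIdeal.primeCompl _).2 ⟨t, h3⟩
    rw [h4] at hms
    exact (IsLocalization.map_units (X.presheaf.stalk x) s).smul_eq_zero.1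
      ((algebraMap_smul (X.presheaf.stalk x) (s : Γ(X, U)) y).trans hms)
  refine (maximalIdeal.isMaximal (X.presheaf.stalk x)).ne_top ((Ideal.eq_top_iff_one _).2 ?_)
  rw [hy]
  exact Ideal.le_radical (WeakAss.mem_annEl.2 (by rw [hy0, smul_zero]))

theorem not_assPoint_quot [IsLocallyNoetherian X] {D E : X.IdealSheafData} (hD : BlowUp.IsEffCartierIdeal D)
    (hE : BlowUp.IsEffCartierIdeal E) {x : X} (hxD : x ∈ D.support) (hxE : x ∈ E.support)
    [LocCoh.IsCohenMacaulayLocalRing (X.presheaf.stalk x)] (hdim : 2 ≤ ringKrullDim (X.presheaf.stalk x))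
    (hisol : ∀ y : X, y ⤳ x → y ∈ D.support → y ∈ E.support → y = x) :
    ¬ Curv2.IsAssPoint (ClSub.quotMod D) x := by
  intro hass
  obtain ⟨U, hU, hxU, f, hI, -, hfreg⟩ := exists_germ hD x
  obtain ⟨V, hV, hxV, g, hJ, -, -⟩ := exists_germ hE x
  let a := X.presheaf.germ U x hxU f
  let b := X.presheaf.germ V x hxV g
  have ha : a ∈ maximalIdeal (X.presheaf.stalk x) := (mem_support_iff hU hI hxU).1 hxD
  have hb : b ∈ maximalIdeal (X.presheaf.stalk x) := (mem_support_iff hV hJ hxV).1 hxE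
  have hmem : ∀ r ∈ [a, b], r ∈ maximalIdeal (X.presheaf.stalk x) := List.forall_mem_cons.2 ⟨ha, List.forall_mem_singleton.2 hb⟩
  have h0 : ringKrullDim (X.presheaf.stalk x ⧸ Ideal.ofList [a, b]) ≤ 0 := by
    rw [← Nat.cast_zero, ← Ring.krullDimLE_iff, Ring.krullDimLE_zero_iff]
    intro Q hQ
    haveI := hQ
    let P : PrimeSpectrum (X.presheaf.stalk x) := ⟨Q.comap (Ideal.Quotient.mk _), inferInstance⟩
    have hPab : Ideal.ofList [a, b] ≤ P.asIdeal := fun r hr => by
      show Ideal.Quotient.mk _ r ∈ Q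
      rw [Ideal.Quotient.eq_zero_iff_mem.2 hr]; exact zero_mem _
    have hy : X.fromSpecStalk x P = X.fromSpecStalk x (closedPoint _) := by
      rw [Scheme.fromSpecStalk_closedPoint]
      refine hisol _ ?_ ((notMem_iff hU hI hxU P).2 (hPab (Ideal.subset_span (by simp [a]))))
        ((notMem_iff hV hJ hxV P).2 (hPab (Ideal.subset_span (by simp [b]))))
      have := (specializes_closedPoint P).map (X.fromSpecStalk x).continuous
      rwa [Scheme.fromSpecStalk_closedPoint] at this
    have hP : P.asIdeal = maximalIdeal (X.presheaf.stalk x) :=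
      congrArg PrimeSpectrum.asIdeal ((X.fromSpecStalk x).isEmbedding.injective hy)
    have hQ' : Q = P.asIdeal.map (Ideal.Quotient.mk _) :=
      (Ideal.map_comap_of_surjective _ Ideal.Quotient.mk_surjective Q).symm
    rw [hQ', hP]
    refine (Ideal.map_eq_top_or_isMaximal_of_surjective (Ideal.Quotient.mk (Ideal.ofList [a, b]))
      Ideal.Quotient.mk_surjective (maximalIdeal.isMaximal _)).resolve_left fun h => hQ.ne_top ?_
    rw [hQ', hP]
    exact h
  have hreg : RingTheory.Sequence.IsRegular (X.presheaf.stalk x) [a, b] :=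
    (H1CMDim.isRegular_iff_dim _ hmem).2 (le_trans (add_le_add_left h0 _) (by simpa using hdim))
  obtain ⟨-, hb'⟩ := (RingTheory.Sequence.isWeaklyRegular_cons_iff _ a [b]).1 hreg.toIsWeaklyRegular
  have hbreg : IsSMulRegular (QuotSMulTop a (X.presheaf.stalk x)) b :=
    ((RingTheory.Sequence.isWeaklyRegular_cons_iff _ b []).1 hb').1
  -- the stalk is cyclic with annihilator `(a)`
  letI := QCoh.stalkAlg (X := X) hxU
  letI := QCoh.stalkModule (ClSub.quotMod D) hxU
  haveI := QCoh.isScalarTower_stalk (ClSub.quotMod D) hxU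
  haveI := QCoh.isLocalization_stalk' hU hxU
  haveI := QCoh.isLocalizedModule_germLin (ParShLib.isCoh_quotMod D).1 hU hxU
  let one : Γ(ClSub.quotMod D, U) := (ClSub.toSubscheme D).app U (1 : Γ(X, U))
  let q₀ := QCoh.germLin (ClSub.quotMod D) hxU one
  have hann : ∀ r : Γ(X, U), r • one = 0 ↔ r ∈ Ideal.span {f} := fun r => by
    rw [← hI, ← QuotTensor.toSub_app_eq_zero D hU r]
    have h := Scheme.Modules.Hom.app_smul (ClSub.toSubscheme D) r
      (show Γ(Coh.structureModule X, U) from (1 : Γ(X, U)))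
    rw [show (r • (show Γ(Coh.structureModule X, U) from (1 : Γ(X, U)))) = r from mul_one r] at h
    rw [h]
  have hgen : ∀ q : (ClSub.quotMod D).presheaf.stalk x, ∃ r : X.presheaf.stalk x, q = r • q₀ := by
    intro q
    obtain ⟨⟨m, s⟩, hms⟩ := IsLocalizedModule.surj (hU.primeIdealOf ⟨x, hxU⟩).asIdeal.primeCompl
      (QCoh.germLin (ClSub.quotMod D) hxU) q
    obtain ⟨r, hr⟩ := D.subschemeι_app_surjective ⟨U, hU⟩ (show Γ(D.subscheme, D.subschemeι ⁻¹ᵁ U) from m)
    have hm : r • one = m := by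
      have h := Scheme.Modules.Hom.app_smul (ClSub.toSubscheme D) r
        (show Γ(Coh.structureModule X, U) from (1 : Γ(X, U)))
      rw [show (r • (show Γ(Coh.structureModule X, U) from (1 : Γ(X, U)))) = r from mul_one r] at h
      exact h.symm.trans hr
    refine ⟨IsLocalization.mk' (X.presheaf.stalk x) r s, ?_⟩
    have hu := IsLocalization.map_units (X.presheaf.stalk x) s
    refine hu.smul_left_cancel.1 ?_
    rw [smul_smul, IsLocalization.mk'_spec', algebraMap_smul, algebraMap_smul, ← map_smul, hm]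
    exact hms
  have hzero : ∀ r : X.presheaf.stalk x, r • q₀ = 0 → r ∈ Ideal.span {a} := by
    intro r hr
    obtain ⟨⟨n, s⟩, rfl⟩ := IsLocalization.mk'_surjective (hU.primeIdealOf ⟨x, hxU⟩).asIdeal.primeCompl r
    have h1 : QCoh.germLin (ClSub.quotMod D) hxU (n • one) = 0 := by
      rw [map_smul, ← algebraMap_smul (X.presheaf.stalk x) n, ← IsLocalization.mk'_spec' (X.presheaf.stalk x) n s,
        ← smul_smul]
      exact (congrArg _ hr).trans (smul_zero _)
    obtain ⟨t, ht⟩ := (IsLocalizedModule.eq_zero_iff (hU.primeIdealOf ⟨x, hxU⟩).asIdeal.primeCompl _).1 h1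
    rw [Submonoid.smul_def, smul_smul, hann] at ht
    show IsLocalization.mk' (X.presheaf.stalk x) n s ∈ _
    rw [IsLocalization.mk'_eq_mul_mk'_one]
    refine Ideal.mul_mem_right _ _ ?_
    have h2 : algebraMap Γ(X, U) (X.presheaf.stalk x) ((t : Γ(X, U)) * n) ∈ Ideal.span {a} := by
      rw [Ideal.mem_span_singleton] at ht ⊢
      exact map_dvd (algebraMap Γ(X, U) (X.presheaf.stalk x)) ht
    rw [map_mul] at h2
    exact (Ideal.unit_mul_mem_iff_mem _ (IsLocalization.map_units _ t)).1 h2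
  obtain ⟨-, y, hy⟩ := hass
  obtain ⟨r, rfl⟩ := hgen y
  rw [AssPtX.colon_bot_singleton] at hy
  have h3 := hb
  rw [hy] at h3
  obtain ⟨n, hn⟩ := h3
  have h4 := hzero (b ^ n * r) ((smul_smul (b ^ n) r q₀).symm.trans (WeakAss.mem_annEl.1 hn))
  have h5 : r • q₀ = 0 := by
    have h6 : (Submodule.Quotient.mk r : QuotSMulTop a (X.presheaf.stalk x)) = 0 := by
      refine (hbreg.pow n).right_eq_zero_of_smul ?_
      rw [← Submodule.Quotient.mk_smul, Submodule.Quotient.mk_eq_zero, Submodule.mem_smul_pointwise_iff_exists]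
      obtain ⟨c, hc⟩ := Ideal.mem_span_singleton'.1 h4
      exact ⟨c, trivial, by rw [smul_eq_mul, smul_eq_mul, mul_comm, hc]⟩
    rw [Submodule.Quotient.mk_eq_zero, Submodule.mem_smul_pointwise_iff_exists] at h6
    obtain ⟨c, -, rfl⟩ := h6
    rw [smul_eq_mul, mul_comm, ← smul_smul]
    have ha0 : a • q₀ = 0 := by
      show algebraMap Γ(X, U) (X.presheaf.stalk x) f • q₀ = 0
      rw [algebraMap_smul, ← map_smul, (hann f).2 (Ideal.mem_span_singleton_self f), map_zero]
    rw [ha0, smul_zero]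
  refine (maximalIdeal.isMaximal (X.presheaf.stalk x)).ne_top ((Ideal.eq_top_iff_one _).2 ?_)
  rw [hy]
  exact Ideal.le_radical (WeakAss.mem_annEl.2 (by rw [one_smul]; exact h5))

variable (k : Type u) [Field k] [X.Over (Spec (CommRingCat.of k))] [IsProper (X ↘ Spec (CommRingCat.of k))]

include k in
theorem two_le_dim (hcomp : ∀ Z ∈ irreducibleComponents (X : Type u), topologicalKrullDim Z = 2)
    {x : X} (hx : IsClosed ({x} : Set X)) : 2 ≤ ringKrullDim (X.presheaf.stalk x) := by
  let p := X ↘ Spec (CommRingCat.of k)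
  obtain ⟨b, hb, -, hle⟩ := VarDim.exists_deg_add_stalk p x
  obtain ⟨Z, hZ, hxZ⟩ : ∃ Z ∈ irreducibleComponents (X : Type u), x ∈ Z :=
    ⟨irreducibleComponent x, irreducibleComponent_mem_irreducibleComponents x, mem_irreducibleComponent⟩
  obtain ⟨z, rfl, -⟩ := VarDim.exists_generic_of_component hZ
  have h1 := hcomp _ hZ
  rw [VarDim.topologicalKrullDim_closure_singleton p z] at h1
  have h2 := hle z (specializes_iff_mem_closure.2 hxZ)
  rw [(VarDim.closedPoint_iff_deg_eq_zero p x).1 hx, zero_add] at h2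
  rw [hb]
  rw [← h1]
  exact_mod_cast h2

theorem intNum_two (hcomp : ∀ Z ∈ irreducibleComponents (X : Type u), topologicalKrullDim Z = 2)
    (hCM : ∀ x : X, LocCoh.IsCohenMacaulayLocalRing (X.presheaf.stalk x))
    (hdim : topologicalKrullDim X ≤ ((2 : ℕ) : WithBot ℕ∞))
    (D E : X.IdealSheafData) (hD : BlowUp.IsEffCartierIdeal D) (hE : BlowUp.IsEffCartierIdeal E)
    (hfin : ((D ⊔ E).support : Set X).Finite) :
    FGA.intNum k X 2 ![ClSub.idealMod D, ClSub.idealMod E] (Coh.structureModule X) =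
      (Module.finrank k (Coh.HH X (ClSub.quotMod (D ⊔ E)) 0) : ℤ) := by
  haveI := CurveCohLib.isNoetherian_of_proper (k := k) (X := X)
  haveI : JacobsonSpace X := LocallyOfFiniteType.jacobsonSpace (X ↘ Spec (CommRingCat.of k))
  have hsup : ((D ⊔ E).support : Set X) = (D.support : Set X) ∩ (E.support : Set X) := by
    rw [Scheme.IdealSheafData.support_sup]; rfl
  have hiD := (S8914.result D).2 hD
  have hiE := (S8914.result E).2 hE
  have hinv : ∀ i : Fin 2, PicF.IsInvertible (![ClSub.idealMod D, ClSub.idealMod E] i) := by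
    intro i; fin_cases i; exacts [hiD, hiE]
  have hdisc : ∀ x ∈ ((D ⊔ E).support : Set X), IsClosed ({x} : Set X) := by
    intro x hx
    haveI : Finite ↥((D ⊔ E).support : Set X) := hfin.to_subtype
    haveI : JacobsonSpace ↥((D ⊔ E).support : Set X) :=
      JacobsonSpace.of_isClosedEmbedding (D ⊔ E).support.isClosed.isClosedEmbedding_subtypeVal
    have h := isClosed_singleton (x := (⟨x, hx⟩ : ↥((D ⊔ E).support : Set X)))
    simpa using (D ⊔ E).support.isClosed.isClosedEmbedding_subtypeVal.isClosedMap _ h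
  rw [IntSym.intNum_eq k hdim _ hinv QCoh.isCoh_structureModule']
  simp only [List.ofFn_succ, List.ofFn_zero, Matrix.cons_val_zero, Matrix.cons_val_succ]
  have hq : Coh.IsCoh (ClSub.quotMod D) := ParShLib.isCoh_quotMod D
  let eD := CurveTensor.structureTensorIso (ClSub.quotMod D)
  rw [sym_cartier k hD QCoh.isCoh_structureModule' (fun x hx => not_assPoint_structure hD hx)
      (l := [ClSub.idealMod E]) (List.forall_mem_singleton.2 hiE),
    show IntSym.sym k [ClSub.idealMod E] (CohB1.tensorMod (Coh.structureModule X) (ClSub.quotMod D)) =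
      IntSym.sym k [ClSub.idealMod E] (ClSub.quotMod D) from sym_iso k (List.forall_mem_singleton.2 hiE) eD,
    sym_cartier k hE hq (fun x hxE hass => ?_) (l := []) (List.forall_mem_nil _)]
  · obtain ⟨eq⟩ := QuotTensor.nonempty_iso D E
    rw [sym_iso k (List.forall_mem_nil _) eq]
    have hsupp : ∀ x ∈ CohB1.support (ClSub.quotMod (D ⊔ E)), IsClosed ({x} : Set X) := fun x hx =>
      hdisc x (Scheme.IdealSheafData.range_subschemeι (D ⊔ E) ▸
        QCoh.support_push_subset (D ⊔ E).subschemeι QCoh.isQCoh_structureModule hx)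
    show _ = (Module.finrank k (Coh.HH X (ClSub.quotMod (D ⊔ E)) 0) : ℤ)
    rw [← CurveCohLib.euler_eq_finrank_zero (ParShLib.isCoh_quotMod (D ⊔ E)) hsupp]
    simp [IntSym.sym, HilbPoly.iterD]
  · by_cases hxD : x ∈ D.support
    · have hx : x ∈ ((D ⊔ E).support : Set X) := hsup.ge ⟨hxD, hxE⟩
      haveI := hCM x
      refine not_assPoint_quot hD hE hxD hxE (two_le_dim k hcomp (hdisc x hx)) (fun y hy hyD hyE => ?_) hass
      exact (Set.mem_singleton_iff.1
        ((hdisc y (hsup.ge ⟨hyD, hyE⟩)).closure_eq.le (specializes_iff_mem_closure.1 hy))).symm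
    · haveI := ParShLib.subsingleton_stalk_quotMod D hxD
      exact AssPtX.mem_support_of_isWeakAssPoint (AssPtX.isAssPoint_iff.1 hass)
        (ParShLib.subsingleton_stalk_quotMod D hxD)

end Groth.Agent.IntSym.TwoCartier
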