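import Groth.Agent.IntNum.Lead
import Groth.Agent.IntNum.Main
import Groth.Agent.HilbPoly.Pos
import Groth.Agent.InvX.Tensor

/-! Intersection symbols as iterated differences: symmetry, additivity in each slot. -/

noncomputable section

set_option linter.style.haveILetI false
set_option linter.unusedSectionVars false
set_option backward.isDefEq.respectTransparency false
set_option backward.isDefEq.respectTransparency.types false

universe u

open CategoryTheory CategoryTheory.Limits AlgebraicGeometry TopologicalSpace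
open Groth.Agent.H23.PicMul

namespace Groth.Agent.IntSym

open HilbPoly (iterD additive_iterD DimLT)

variable {X : Scheme.{u}}

/-- All modules of the list are invertible. -/
abbrev Inv (l : List X.Modules) : Prop := ∀ N ∈ l, PicF.IsInvertible N

theorem iterD_swap [IsLocallyNoetherian X] {φ : X.Modules → ℤ} (hφ : HilbPoly.Additive φ) {l : List X.Modules}
    (hl : Inv l) (A B F : X.Modules) : iterD (A :: B :: l) φ F = iterD (B :: A :: l) φ F := by
  obtain ⟨e⟩ : Nonempty ((AmpleVan.tw B).obj ((AmpleVan.tw A).obj F) ≅ (AmpleVan.tw A).obj ((AmpleVan.tw B).obj F)) :=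
    ⟨(AmpleVan.twComp A B).app F ≪≫ ((DCoh.tensorBi (X := X)).obj F).mapIso (CurveTensor.commIso A B) ≪≫
      ((AmpleVan.twComp B A).app F).symm⟩
  simp only [iterD]
  rw [(additive_iterD hφ hl).iso _ _ ⟨e⟩]
  ring

theorem iterD_perm [IsLocallyNoetherian X] {φ : X.Modules → ℤ} (hφ : HilbPoly.Additive φ) {l l' : List X.Modules}
    (h : l.Perm l') : Inv l → ∀ F : X.Modules, iterD l φ F = iterD l' φ F := by
  induction h with
  | nil => exact fun _ _ => rfl
  | @cons x a b hp ih =>
    intro hl F
    simp only [iterD]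
    rw [ih (fun N hN => hl N (List.mem_cons_of_mem _ hN)), ih (fun N hN => hl N (List.mem_cons_of_mem _ hN))]
  | @swap x y a =>
    intro hl F
    exact iterD_swap hφ (fun N hN => hl N (List.mem_cons_of_mem _ (List.mem_cons_of_mem _ hN))) y x F
  | @trans a b c h₁ h₂ ih₁ ih₂ =>
    intro hl F
    exact (ih₁ hl F).trans (ih₂ (fun N hN => hl N (h₁.symm.subset hN)) F)

variable (k : Type u) [Field k] [X.Over (Spec (CommRingCat.of k))] [IsProper (X ↘ Spec (CommRingCat.of k))]

/-- The intersection symbol of a list of invertible modules against a coherent module. -/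
def sym (l : List X.Modules) (F : X.Modules) : ℤ := iterD l (Curv2.euler k X) F

theorem sym_cons (A : X.Modules) (l : List X.Modules) (F : X.Modules) :
    sym k (A :: l) F = sym k l ((AmpleVan.tw A).obj F) - sym k l F := rfl

theorem additive_sym {l : List X.Modules} (hl : Inv l) : HilbPoly.Additive (sym k l) := by
  haveI := CurveCohLib.isNoetherian_of_proper (k := k) (X := X)
  exact additive_iterD (HilbPoly.additive_euler k) hl

theorem sym_iso {l : List X.Modules} (hl : Inv l) {F G : X.Modules} (e : F ≅ G) : sym k l F = sym k l G :=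
  (additive_sym k hl).iso _ _ ⟨e⟩

theorem sym_perm {l l' : List X.Modules} (h : l.Perm l') (hl : Inv l) (F : X.Modules) :
    sym k l F = sym k l' F := by
  haveI := CurveCohLib.isNoetherian_of_proper (k := k) (X := X)
  exact iterD_perm (HilbPoly.additive_euler k) h hl F

theorem sym_eq_zero {l : List X.Modules} (hl : Inv l) {F : X.Modules} (hF : Coh.IsCoh F)
    (hd : DimLT F l.length) : sym k l F = 0 := by
  haveI := CurveCohLib.isNoetherian_of_proper (k := k) (X := X)
  exact HilbPoly.iterD_eq_zero l.length (HilbPoly.additive_euler k) l rfl hl F hF hd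

theorem sym_replicate (L : X.Modules) (d : ℕ) (F : X.Modules) :
    sym k (List.replicate d L) F = HilbPoly.mult k L d F := rfl

theorem sym_congr_head {A B : X.Modules} (e : A ≅ B) {l : List X.Modules} (hl : Inv l) (F : X.Modules) :
    sym k (A :: l) F = sym k (B :: l) F := by
  have h : sym k l ((AmpleVan.tw A).obj F) = sym k l ((AmpleVan.tw B).obj F) :=
    sym_iso k hl (((DCoh.tensorBi (X := X)).obj F).mapIso e)
  rw [sym_cons, sym_cons, h]

theorem sym_structure_head {l : List X.Modules} (hl : Inv l) (F : X.Modules) :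
    sym k (Coh.structureModule X :: l) F = 0 := by
  have h : sym k l ((AmpleVan.tw (Coh.structureModule X)).obj F) = sym k l F :=
    sym_iso k hl (AmpleVan.twUnit.app F)
  rw [sym_cons, h, sub_self]

/-- Twisting does not change the symbol in top dimension. -/
theorem sym_twist {A : X.Modules} (hA : PicF.IsInvertible A) {l : List X.Modules} (hl : Inv l) {F : X.Modules}
    (hF : Coh.IsCoh F) (hd : topologicalKrullDim ↥(CohB1.support F) ≤ (l.length : WithBot ℕ∞)) :
    sym k l ((AmpleVan.tw A).obj F) = sym k l F := by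
  rw [← sub_eq_zero, ← sym_cons]
  exact sym_eq_zero k (List.forall_mem_cons.2 ⟨hA, hl⟩) hF (HilbPoly.lt_succ_of_le hd)

/-- Additivity in the first slot. -/
theorem sym_tensor_head {A B : X.Modules} (hA : PicF.IsInvertible A) (hB : PicF.IsInvertible B)
    {l : List X.Modules} (hl : Inv l) {F : X.Modules} (hF : Coh.IsCoh F)
    (hd : topologicalKrullDim ↥(CohB1.support F) ≤ ((l.length + 1 : ℕ) : WithBot ℕ∞)) :
    sym k (CohB1.tensorMod A B :: l) F = sym k (A :: l) F + sym k (B :: l) F := by
  haveI := CurveCohLib.isNoetherian_of_proper (k := k) (X := X)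
  obtain ⟨c⟩ : Nonempty ((AmpleVan.tw B).obj ((AmpleVan.tw A).obj F) ≅
      (AmpleVan.tw (CohB1.tensorMod A B)).obj F) := ⟨(AmpleVan.twComp A B).app F⟩
  have h1 : sym k (B :: l) ((AmpleVan.tw A).obj F) = sym k (B :: l) F :=
    sym_twist k hA (List.forall_mem_cons.2 ⟨hB, hl⟩) hF (by rw [List.length_cons]; exact hd)
  rw [sym_cons k B l, sym_iso k hl c] at h1
  rw [sym_cons, sym_cons k A l]
  linarith

/-- An inverse changes the sign. -/
theorem sym_inverse_head {A B : X.Modules} (hA : PicF.IsInvertible A) (hB : PicF.IsInvertible B)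
    (e : CohB1.tensorMod A B ≅ Coh.structureModule X) {l : List X.Modules} (hl : Inv l) {F : X.Modules}
    (hF : Coh.IsCoh F) (hd : topologicalKrullDim ↥(CohB1.support F) ≤ ((l.length + 1 : ℕ) : WithBot ℕ∞)) :
    sym k (A :: l) F = - sym k (B :: l) F := by
  have h := sym_tensor_head k hA hB hl hF hd
  rw [sym_congr_head k e hl, sym_structure_head k hl] at h
  linarith

/-- Powers in the first slot. -/
theorem sym_tensorPow_head {A : X.Modules} (hA : PicF.IsInvertible A) {l : List X.Modules} (hl : Inv l)
    {F : X.Modules} (hF : Coh.IsCoh F)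
    (hd : topologicalKrullDim ↥(CohB1.support F) ≤ ((l.length + 1 : ℕ) : WithBot ℕ∞)) :
    ∀ n : ℕ, sym k (CohB1.tensorPow A n :: l) F = n * sym k (A :: l) F
  | 0 => by rw [Nat.cast_zero, zero_mul]; exact sym_structure_head k hl F
  | n + 1 => by
    show sym k (CohB1.tensorMod (CohB1.tensorPow A n) A :: l) F = _
    rw [sym_tensor_head k (InvX.isInvertible_tensorPow hA n) hA hl hF hd, sym_tensorPow_head hA hl hF hd n]
    push_cast
    ring

/-- Alternating sums over the cube are symbols. -/
theorem alt_eq_sym : ∀ {d : ℕ} (L : Fin d → X.Modules), (∀ i, PicF.IsInvertible (L i)) → ∀ F : X.Modules,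
    IntNum.alt (Snapper.χs k L F) = (sym k (List.ofFn L) F : ℚ)
  | 0, L, _, F => by
    simp only [IntNum.alt, IntNum.sgn, Snapper.χs, Curv2.tensorPows, Finset.univ_unique, Finset.sum_singleton,
      Finset.univ_eq_empty, Finset.prod_empty, one_mul, List.ofFn_zero]
    rfl
  | d + 1, L, hL, F => by
    have hc : ∀ c (m : Fin d → ℕ), Snapper.χs k L F (Fin.cons c m) =
        Snapper.χs k (fun j => L j.succ) (CohB1.tensorMod F (CohB1.tensorPow (L 0) c)) m := fun c m => by
      obtain ⟨i⟩ := IntNum.tensorPows_cons L c m F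
      unfold Snapper.χs
      exact congrArg (fun z : ℤ => (z : ℚ)) (CurveCohLib.euler_congr (k := k) i)
    obtain ⟨e1⟩ : Nonempty (CohB1.tensorMod F (CohB1.tensorPow (L 0) 1) ≅ CohB1.tensorMod F (L 0)) := by
      simp only [CohB1.tensorPow]
      exact ⟨PicGrp.tensorModIso (Iso.refl F) (CurveTensor.structureTensorIso (L 0))⟩
    obtain ⟨e0⟩ : Nonempty (CohB1.tensorMod F (CohB1.tensorPow (L 0) 0) ≅ F) := by
      simp only [CohB1.tensorPow]
      exact ⟨AmpleVan.twUnit.app F⟩
    rw [IntNum.alt_succ, IntNum.alt_congr (hc 1), IntNum.alt_congr (hc 0),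
      IntNum.alt_congr (Snapper.χs_congr k e1), IntNum.alt_congr (Snapper.χs_congr k e0),
      alt_eq_sym (fun j => L j.succ) (fun j => hL _), alt_eq_sym (fun j => L j.succ) (fun j => hL _),
      ← Int.cast_sub, List.ofFn_succ]
    rfl

end Groth.Agent.IntSym
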