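import Groth.Agent.BigMono.NefProper
import Groth.Agent.VolLib.UnifMain
import Groth.Agent.FlatMisc.DimConstr

/-!
# Numerically trivial modules do not change Euler characteristics on proper schemes
-/

set_option linter.style.haveILetI false
set_option linter.unusedSectionVars false
set_option backward.isDefEq.respectTransparency false
set_option backward.isDefEq.respectTransparency.types false
set_option maxHeartbeats 1000000

universe u

open CategoryTheory CategoryTheory.Limits AlgebraicGeometry TopologicalSpace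
open Groth.Agent Groth.Agent.IntNum
open Groth.Agent.H23.PicMul
open scoped Groth.Agent.H23.PicMul
open Snapper (χs)

noncomputable section

namespace Groth.Agent.IntSym

variable (k : Type u) [Field k] {X : Scheme.{u}} [X.Over (Spec (CommRingCat.of k))]
  [IsProper (X ↘ Spec (CommRingCat.of k))]

include k in
/-- A scheme proper over a field has finite dimension. -/
theorem exists_dim_bound : ∃ d : ℕ, topologicalKrullDim X ≤ (d : WithBot ℕ∞) := by
  haveI : IsNoetherian X := CurveCohLib.isNoetherian_of_proper (k := k) (X := X)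
  let f := X ↘ Spec (CommRingCat.of k)
  haveI : LocallyOfFinitePresentation f := inferInstance
  obtain ⟨d, hd⟩ := FlatMisc.DimConstr.exists_dim_le f (IsLocalRing.closedPoint k)
  refine ⟨d, ?_⟩
  have h : f ⁻¹' {IsLocalRing.closedPoint k} = Set.univ := Set.eq_univ_of_forall fun x => Subsingleton.elim _ _
  rw [← ((Homeomorph.setCongr h).trans (Homeomorph.Set.univ X)).isHomeomorph.topologicalKrullDim_eq,
    ← (f.fiberHomeo (IsLocalRing.closedPoint k)).isHomeomorph.topologicalKrullDim_eq]
  exact hd

theorem numEq_structure {L : X.Modules} (hL : PicF.IsInvertible L) (h : Pic13.IsNumEquivZero k X L) :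
    NumEq k L (Coh.structureModule X) := by
  intro Z i _ _ hZ
  rw [← curveDeg_eq k i hZ hL, h Z i inferInstance hZ, sym_structure_head k (List.forall_mem_nil _)]

/-- Pullbacks of numerically trivial modules along morphisms over the field. -/
theorem nt_pullback {Y : Scheme.{u}} [Y.Over (Spec (CommRingCat.of k))] [IsProper (Y ↘ Spec (CommRingCat.of k))]
    (f : Y ⟶ X) (hf : f ≫ (X ↘ Spec (CommRingCat.of k)) = Y ↘ Spec (CommRingCat.of k))
    {L : X.Modules} (hL : PicF.IsInvertible L) (h : Pic13.IsNumEquivZero k X L) :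
    VolLib.NT k ((Scheme.Modules.pullback f).obj L) := by
  have hfL := PicClLib.isInvertible_pullback f hL
  refine ⟨hfL, fun Z i hi hZI hZ => ?_⟩
  haveI := hi; haveI := hZI
  obtain ⟨e⟩ : Nonempty ((Scheme.Modules.pullback f).obj (Coh.structureModule X) ≅ Coh.structureModule Y) :=
    PicClLib.nonempty_pullback_structureModule f
  rw [curveDeg_eq k i hZ hfL,
    NumEq.pullback k f hf hL InvX.isInvertible_structureModule (numEq_structure k hL h) Z i hZ,
    sym_congr_head k e (List.forall_mem_nil _), sym_structure_head k (List.forall_mem_nil _)]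

/-- The symbol of a numerically trivial module in dimension `n`, knowing it in smaller dimensions. -/
theorem sym_numTriv_point {L : X.Modules} (hL : PicF.IsInvertible L) (h : Pic13.IsNumEquivZero k X L) {n : ℕ}
    (IH : ∀ M : X.Modules, Coh.IsCoh M → topologicalKrullDim ↥(CohB1.support M) < (n : WithBot ℕ∞) → sym k [L] M = 0)
    {ξ : X} (hξ : topologicalKrullDim ↥(closure ({ξ} : Set X)) = (n : WithBot ℕ∞)) :
    sym k [L] (ClSub.quotMod (ptIdeal ξ)) = 0 := by
  classical
  haveI := CurveCohLib.isNoetherian_of_proper (k := k) (X := X)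
  let ι := (ptIdeal ξ).subschemeι
  let W := (ptIdeal ξ).subscheme
  haveI : IsIntegral W := QCoh.isIntegral_closure_point ξ
  letI : W.Over (Spec (CommRingCat.of k)) := ⟨ι ≫ (X ↘ Spec (CommRingCat.of k))⟩
  haveI : IsProper (W ↘ Spec (CommRingCat.of k)) :=
    show IsProper (ι ≫ (X ↘ Spec (CommRingCat.of k))) from inferInstance
  have hr : Set.range ι = closure ({ξ} : Set X) := range_ptIdeal ξ
  have hW : topologicalKrullDim W = (n : WithBot ℕ∞) := (dim_eq_of_range ι hr).trans hξ
  obtain ⟨V, g, A, hV, hp, hA, hVd, hgη, hdeg⟩ := BigMono.exists_projective_cover k W hW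
  haveI := hV
  letI : V.Over (Spec (CommRingCat.of k)) := ⟨g ≫ (W ↘ Spec (CommRingCat.of k))⟩
  haveI : IsProper (V ↘ Spec (CommRingCat.of k)) := hp
  haveI := CurveCohLib.isNoetherian_of_proper (k := k) (X := V)
  haveI : HasInjectiveResolutions V.Modules := KFlatLib.hasInjectiveResolutions_modules
  let f := g ≫ ι
  have hf : f ≫ (X ↘ Spec (CommRingCat.of k)) = V ↘ Spec (CommRingCat.of k) := Category.assoc _ _ _
  haveI : IsProper f := LerayEuler.isProper_f k f hf
  have hcl : IsClosedMap f.base := f.isClosedMap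
  set η := genericPoint V
  have hη : f η = ξ := by
    show ι (g η) = ξ
    rw [hgη]
    exact (inseparable_iff_closure_eq.2 ((QCoh.range_eq_closure ι).symm.trans hr)).eq
  have hrange : Set.range f.base = closure ({ξ} : Set X) := by
    refine Set.Subset.antisymm ?_ (hcl.isClosed_range.closure_subset_iff.2 (Set.singleton_subset_iff.2 ⟨η, hη⟩))
    rintro _ ⟨z, rfl⟩
    rw [← hη]
    exact specializes_iff_mem_closure.1 ((genericPoint_specializes z).map f.continuous)
  -- one point over the generic point
  let p := X ↘ Spec (CommRingCat.of k)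
  let pV := V ↘ Spec (CommRingCat.of k)
  have hdegη : VarDim.deg pV η = n := by
    have h := VarDim.topologicalKrullDim_eq_deg_genericPoint pV
    rw [hVd] at h
    exact_mod_cast h.symm
  have hdegξ : VarDim.deg p ξ = n := by
    have h := VarDim.topologicalKrullDim_closure_singleton p ξ
    rw [hξ] at h
    exact_mod_cast h.symm
  have hone : ∀ z, f z = ξ → z = η := by
    intro z hz
    by_contra hne
    have hlt' := IntNum.dim_closure_lt (ξ := η) (η := z) (d := n)
      (by rw [(genericPoint_spec V).def]; exact Set.subset_univ _) hne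
      (by rw [VarDim.topologicalKrullDim_closure_singleton pV, hdegη]; rfl)
    rw [VarDim.topologicalKrullDim_closure_singleton pV] at hlt'
    have h1 : VarDim.deg pV z < n := by exact_mod_cast hlt'
    have h2 : VarDim.deg pV z = VarDim.deg p (f z) + VarDim.fdeg f z := VarDim.deg_eq_add f p hf z
    rw [hz] at h2
    omega
  obtain ⟨V₀, hV₀, hfin⟩ := exists_isFinite_morphismRestrict_of_finite_preimage_singleton
    (f := f) ξ ((Set.finite_singleton η).subset fun z hz => hone z hz)
  obtain ⟨_, ⟨U, hU, rfl⟩, hξU, hUV₀⟩ := X.isBasis_affineOpens.exists_subset_of_mem_open hV₀ V₀.2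
  have hfU : IsAffineOpen (f ⁻¹ᵁ U) := by
    haveI := hfin
    have hU' : IsAffineOpen (V₀.ι ⁻¹ᵁ U) :=
      hU.preimage_of_isOpenImmersion _ (by rw [Scheme.Opens.opensRange_ι]; exact hUV₀)
    have h := (hU'.preimage (f ∣_ V₀)).image_of_isOpenImmersion (f ⁻¹ᵁ V₀).ι
    rw [image_morphismRestrict_preimage] at h
    rwa [Scheme.Hom.image_preimage_eq_opensRange_inf, Scheme.Opens.opensRange_ι,
      inf_eq_right.2 (show U ≤ V₀ from hUV₀)] at h
  -- the symbol on the higher direct images
  have hOV : Coh.IsCoh (Coh.structureModule V) := QCoh.isCoh_structureModule'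
  have hR : ∀ i, sym k [L] ((Coh.Rpush f i).obj (Coh.structureModule V)) =
      (lenAt ((Coh.Rpush f i).obj (Coh.structureModule V)) ξ : ℤ) * sym k [L] (ClSub.quotMod (ptIdeal ξ)) := by
    intro i
    set M := (Coh.Rpush f i).obj (Coh.structureModule V)
    have hM : Coh.IsCoh M := LerayEuler.isCoh_R k f hf _ hOV i
    have hMs : CohB1.support M ⊆ closure ({ξ} : Set X) := hrange ▸ LerayEuler.support_Rpush_subset f hcl hOV.1 i
    have hφ := additive_sym k (List.forall_mem_singleton.2 hL)
    obtain ⟨S, hS, hS0, hmem⟩ := IntNum.leading (⊥ : AddSubgroup ℤ) (sym k [L]) n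
      (fun {M M'} e => hφ.iso M M' ⟨e⟩) hφ.add
      (fun P hP hPd => AddSubgroup.mem_bot.2 (IH P hP hPd)) hM
      ((H23.TopDim.dim_le_dim_of_subset hMs).trans hξ.le)
    rw [AddSubgroup.mem_bot, sub_eq_zero] at hmem
    have hz : ∀ ξ' ∈ S, ξ' ≠ ξ → lenAt M ξ' = 0 := fun ξ' h' hne => lenAt_eq_zero fun hmem' =>
      (IntNum.dim_closure_lt (isClosed_closure.closure_subset_iff.2
        (Set.singleton_subset_iff.2 (hMs hmem'))) hne hξ.le).ne (hS ξ' h')
    rw [hmem, Finset.sum_eq_single ξ (fun ξ' h' hne => by rw [hz ξ' h' hne, zero_smul])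
      (fun hn => by rw [hS0 ξ hξ hn, zero_smul]), nsmul_eq_mul]
  have h0 : lenAt ((Coh.Rpush f 0).obj (Coh.structureModule V)) ξ = f.residueDegree η := by
    haveI := SpObjSS.enoughInjectives_of_hasInjectiveResolutions (C := V.Modules)
    haveI := QCoh.preservesFiniteLimits_push f
    let e₀ := (Scheme.Modules.pushforward f).rightDerivedZeroIsoSelf.app (Coh.structureModule V)
    rw [← LerayEuler.lenAt_push_structure_residueDegree f hcl (fun z hz => hone z (hz.trans hη))]
    rw [show f.base η = ξ from hη]
    exact congrArg ENat.toNat ((DerSch.stalkFunctor X ξ).mapIso e₀).toLinearEquiv.length_eq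
  obtain ⟨N, hN, hpull⟩ := LerayEuler.alt_pullback k f hf hOV
  have key := hpull 1 (fun _ => L) (fun _ => hL)
  have hfL := nt_pullback k f hf hL h
  have hl : sym k [(Scheme.Modules.pullback f).obj L] (Coh.structureModule V) = 0 := by
    have hu := (VolLib.unif k hA hOV (d := n + 1)
      ((topologicalKrullDim_subspace_le V _).trans_lt (hVd ▸ (by exact_mod_cast Nat.lt_succ_self n)))).chi _ hfL
    rw [sym_singleton]
    exact sub_eq_zero.2 hu
  obtain ⟨N', rfl⟩ : ∃ N', N = N' + 1 := ⟨N - 1, by omega⟩
  rw [alt_eq_sym k (fun _ : Fin 1 => (Scheme.Modules.pullback f).obj L) (fun _ => hfL.1),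
    List.ofFn_const, List.replicate_one, hl, Finset.sum_range_succ', pow_zero, _root_.one_mul,
    alt_eq_sym k (fun _ : Fin 1 => L) (fun _ => hL), List.ofFn_const, List.replicate_one, hR 0, h0,
    Finset.sum_eq_zero fun i _ => ?_, zero_add] at key
  · rw [Int.cast_zero, eq_comm, Int.cast_eq_zero] at key
    refine (mul_eq_zero.1 key).resolve_left ?_
    have hfdeg : 0 < f.residueDegree η := by
      rw [show f.residueDegree η = (g ≫ ι).residueDegree η from rfl, CycLib.residueDegree_comp,
        CycLib.residueDegree_preimmersion ι, _root_.one_mul]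
      exact hdeg
    exact_mod_cast hfdeg.ne'
  · rw [alt_eq_sym k (fun _ : Fin 1 => L) (fun _ => hL), List.ofFn_const, List.replicate_one, hR (i + 1),
      lenAt_eq_zero (LerayEuler.notMem_support_Rpush f hOV.1 i hU hξU hfU), Nat.cast_zero, zero_mul,
      Int.cast_zero, mul_zero]

/-- Twisting a coherent module by a numerically trivial module does not change its Euler characteristic. -/
theorem sym_numTriv_eq_zero {L : X.Modules} (hL : PicF.IsInvertible L) (h : Pic13.IsNumEquivZero k X L) :
    ∀ {F : X.Modules}, Coh.IsCoh F → sym k [L] F = 0 := by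
  haveI := CurveCohLib.isNoetherian_of_proper (k := k) (X := X)
  obtain ⟨d, hd⟩ := exists_dim_bound k (X := X)
  suffices H : ∀ (n : ℕ) (F : X.Modules), Coh.IsCoh F →
      topologicalKrullDim ↥(CohB1.support F) < (n : WithBot ℕ∞) → sym k [L] F = 0 from fun {F} hF =>
    H (d + 1) F hF (((topologicalKrullDim_subspace_le X _).trans hd).trans_lt (by exact_mod_cast Nat.lt_succ_self d))
  intro n
  induction n with
  | zero => exact fun F hF hFd => (additive_sym k (List.forall_mem_singleton.2 hL)).zero_of_isZero (VolLib.isZero_of_dim_neg hFd)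
  | succ n IH =>
    intro F hF hFd
    have hφ := additive_sym k (List.forall_mem_singleton.2 hL)
    obtain ⟨S, hS, -, hmem⟩ := IntNum.leading (⊥ : AddSubgroup ℤ) (sym k [L]) n
      (fun {M M'} e => hφ.iso M M' ⟨e⟩) hφ.add
      (fun P hP hPd => AddSubgroup.mem_bot.2 (IH P hP hPd)) hF (HilbPoly.le_of_lt_succ hFd)
    rw [AddSubgroup.mem_bot, sub_eq_zero] at hmem
    rw [hmem]
    exact Finset.sum_eq_zero fun ξ hξ => by rw [sym_numTriv_point k hL h IH (hS ξ hξ), smul_zero]

end Groth.Agent.IntSym
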