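import Groth.Agent.IntSym.CurveSurface
import Groth.Agent.IntSym.NumEuler
import Groth.Agent.BigMono.NefBig

/-!
# Effective classes on surfaces meet ample classes positively
-/

set_option linter.style.haveILetI false
set_option linter.unusedSectionVars false
set_option backward.isDefEq.respectTransparency false
set_option backward.isDefEq.respectTransparency.types false
set_option maxHeartbeats 1000000

universe u

open CategoryTheory CategoryTheory.Limits AlgebraicGeometry TopologicalSpace
open Groth.Agent.H23.PicMul
open scoped Groth.Agent.H23.PicMul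

noncomputable section

namespace Groth.Agent.IntSym.CurveSurface

variable (k : Type u) [Field k] {S : Scheme.{u}} [S.Over (Spec (CommRingCat.of k))]
  [IsProper (S ↘ Spec (CommRingCat.of k))] [IsIntegral S]

/-- A module with more sections than the structure sheaf meets every ample module positively. -/
theorem sym_pos_of_sections (hdim : topologicalKrullDim S = ((2 : ℕ) : WithBot ℕ∞))
    (hreg : ∀ x : S, IsRegularLocalRing (S.presheaf.stalk x))
    {L H : S.Modules} (hL : PicF.IsInvertible L) (hH : CohB1.IsAmple H)
    (hsec : Module.finrank k (Coh.HH S (Coh.structureModule S) 0) < Module.finrank k (Coh.HH S L 0)) :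
    0 < sym k [L, H] (Coh.structureModule S) := by
  haveI := CurveCohLib.isNoetherian_of_proper (k := k) (X := S)
  haveI : S.IsSeparated := AmpleVan.isSeparated_of_proper (A := k)
  obtain ⟨τ, hτ⟩ := VolLib.exists_section_of_pos (k := k) ((Nat.zero_le _).trans_lt hsec)
  let s : Coh.structureModule S ⟶ L := InvX.ofSect τ
  haveI := InvEnd.mono_of_ne_zero InvX.isInvertible_structureModule hL s (fun h0 => hτ (by
    rw [← InvX.one_ofSect τ]
    exact congrArg InvX.one h0))
  haveI := NakaiMo.isIso_stalk hL s
  have hηs : genericPoint S ∉ CohB1.support (cokernel s) := Snapper.notMem_support_cokernel s inferInstance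
  have hO : Coh.IsCoh (Coh.structureModule S) := QCoh.isCoh_structureModule'
  have hLc := AmpleVan.isCoh_invertible hL
  have hQ := QCoh.isCoh_cokernel hO.1 hLc s
  set Q := cokernel s
  have hS : (ShortComplex.mk s (cokernel.π s) (cokernel.condition s)).ShortExact :=
    .mk' (ShortComplex.exact_of_g_is_cokernel _ (cokernelIsCokernel s)) ‹_› inferInstance
  obtain ⟨e⟩ : Nonempty ((AmpleVan.tw L).obj (Coh.structureModule S) ≅ L) :=
    nonempty_unit_tensor L
  have hM : ∀ {M : S.Modules}, PicF.IsInvertible M → sym k [L, M] (Coh.structureModule S) = sym k [M] Q := by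
    intro M hM'
    have hl : Inv [M] := List.forall_mem_singleton.2 hM'
    have hadd := (additive_sym k hl).add _ hS hO hLc hQ
    change sym k [M] L = sym k [M] (Coh.structureModule S) + sym k [M] Q at hadd
    rw [sym_cons, sym_iso k hl e]
    linarith
  have hQd : topologicalKrullDim ↥(CohB1.support Q) < ((2 : ℕ) : WithBot ℕ∞) := hdim ▸
    H23.TopDim.dim_lt_of_ssubset (X := S) (by rw [hdim]; exact WithBot.coe_inj.not.2 (ENat.natCast_ne_top _))
      (QCoh.isClosed_support_of_isFT hQ.1 hQ.2) (fun h => hηs (h ▸ Set.mem_univ _))
  have hQ1 : topologicalKrullDim ↥(CohB1.support Q) ≤ ((1 : ℕ) : WithBot ℕ∞) := HilbPoly.le_of_lt_succ hQd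
  rcases hQ1.lt_or_eq with hlt | heq
  · -- finite support: the module is numerically trivial, hence trivial
    exfalso
    have hzero : ∀ {M : S.Modules}, PicF.IsInvertible M → sym k [L, M] (Coh.structureModule S) = 0 := fun hM' => by
      rw [hM hM', sym_eq_zero k (List.forall_mem_singleton.2 hM') hQ hlt]
    have hnum : NumEq k L (Coh.structureModule S) :=
      numEq_of_intNum k hdim hreg hL InvX.isInvertible_structureModule fun M hM' => by
        rw [intNum_pair k hdim.le hL hM', intNum_pair k hdim.le InvX.isInvertible_structureModule hM', hzero hM',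
          sym_structure_head k (List.forall_mem_singleton.2 hM')]
    have hNT : Pic13.IsNumEquivZero k S L := fun Z i hi hZI hZ => by
      haveI := hi; haveI := hZI
      rw [curveDeg_eq k i hZ hL, hnum Z i hZ, sym_structure_head k (List.forall_mem_nil _)]
    have h0 := sym_numTriv_eq_zero k hL hNT hO
    rw [sym_singleton, CurveCohLib.euler_congr (k := k) (show CohB1.tensorMod (Coh.structureModule S) L ≅ L from e)] at h0
    have hadd := CurveCohLib.euler_additive (k := k) hS hO hLc hQ
    change Curv2.euler k S L = Curv2.euler k S (Coh.structureModule S) + Curv2.euler k S Q at hadd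
    have hvan : ∀ q, Subsingleton (Coh.HH S Q (q + 1)) := fun q =>
      Snapper.subsingleton_HH_of_dim_lt 1 ⟨_, QCoh.isClosed_support_of_isFT hQ.1 hQ.2⟩ hlt Q hQ.1 subset_rfl
        (q + 1) (by omega)
    have hQ0 := VolLib.euler_one (k := k) hvan
    have hh := VolLib.dimH_mid (k := k) hS hO hLc hQ 0
    change VolLib.dimH k L 0 ≤ VolLib.dimH k (Coh.structureModule S) 0 + VolLib.dimH k Q 0 at hh
    rw [VolLib.dimH_def, VolLib.dimH_def] at hh
    omega
  · rw [hM hH.1, show [H] = List.replicate 1 H from rfl, sym_replicate]
    exact (HilbPoly.mult_nonneg_and_pos k hH 1 Q hQ hQ1).2 heq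

end Groth.Agent.IntSym.CurveSurface
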