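import Groth.Agent.IntSym.Basic
import Groth.Agent.H23.PicInv

/-! Invariance of intersection symbols under numerical equivalence. -/

noncomputable section

set_option linter.style.haveILetI false
set_option linter.unusedSectionVars false
set_option backward.isDefEq.respectTransparency false
set_option backward.isDefEq.respectTransparency.types false

universe u

open CategoryTheory CategoryTheory.Limits AlgebraicGeometry TopologicalSpace
open Groth.Agent.H23.PicMul

namespace Groth.Agent.IntSym

open HilbPoly (iterD)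

variable {X : Scheme.{u}} (k : Type u) [Field k] [X.Over (Spec (CommRingCat.of k))]
  [IsProper (X ↘ Spec (CommRingCat.of k))]

/-- Equal degrees on all integral curves. -/
def NumEq (L L' : X.Modules) : Prop :=
  ∀ (Z : Scheme.{u}) (i : Z ⟶ X) [IsClosedImmersion i] [IsIntegral Z], topologicalKrullDim Z = 1 →
    sym k [L] ((Coh.push i).obj (Coh.structureModule Z)) = sym k [L'] ((Coh.push i).obj (Coh.structureModule Z))

theorem dim_eq_of_range {Z : Scheme.{u}} (i : Z ⟶ X) [IsClosedImmersion i] {T : Set X} (h : Set.range i = T) :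
    topologicalKrullDim Z = topologicalKrullDim ↥T := by
  subst h
  exact IsHomeomorph.topologicalKrullDim_eq _ i.isClosedEmbedding.isEmbedding.toHomeomorph.isHomeomorph

theorem dim_push_le {Z : Scheme.{u}} (i : Z ⟶ X) [IsClosedImmersion i] {M : Z.Modules} (hM : Coh.IsQCoh M)
    {d : WithBot ℕ∞} (h : topologicalKrullDim Z ≤ d) :
    topologicalKrullDim ↥(CohB1.support ((Coh.push i).obj M)) ≤ d :=
  (H23.TopDim.dim_le_dim_of_subset (QCoh.support_push_subset i hM)).trans ((dim_eq_of_range i rfl).symm.le.trans h)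

/-- A module of degree zero on all curves kills all symbols. -/
theorem sym_eq_zero_of_curves {M : X.Modules} (hM : PicF.IsInvertible M)
    (h : ∀ (Z : Scheme.{u}) (i : Z ⟶ X) [IsClosedImmersion i] [IsIntegral Z], topologicalKrullDim Z = 1 →
      sym k [M] ((Coh.push i).obj (Coh.structureModule Z)) = 0) :
    ∀ (r : ℕ) (l : List X.Modules), l.length = r → Inv l → ∀ F : X.Modules, Coh.IsCoh F →
      topologicalKrullDim ↥(CohB1.support F) ≤ ((r + 1 : ℕ) : WithBot ℕ∞) → sym k (M :: l) F = 0 := by
  haveI := CurveCohLib.isNoetherian_of_proper (k := k) (X := X)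
  intro r
  induction r using Nat.strong_induction_on with
  | _ r IH =>
    intro l hl hinv F hF hd
    have hA := additive_sym k (List.forall_mem_cons.2 ⟨hM, hinv⟩)
    refine QCoh.devissage (fun G => sym k (M :: l) G = 0)
      (fun G G' e hG => (hA.iso G G' e).symm.trans hG) (fun G hG => hA.zero_of_isZero hG)
      (CohB1.support F) (fun S hS h₁ h₂ h₃ _ e₁ e₃ => by rw [hA.add S hS h₁ h₂ h₃, e₁, e₃, add_zero])
      (fun ξ hξ _ Z i _ _ hr => ?_)
      (fun S hS h₁ h₂ h₃ _ e₂ e₃ => by
        have h' := hA.add S hS h₁ h₂ h₃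
        rw [e₂, e₃, add_zero] at h'
        exact h'.symm) hF subset_rfl
    have hcl : topologicalKrullDim ↥(closure ({ξ} : Set X)) ≤ ((r + 1 : ℕ) : WithBot ℕ∞) :=
      (H23.TopDim.dim_le_dim_of_subset hξ).trans hd
    have hO : Coh.IsCoh ((Coh.push i).obj (Coh.structureModule Z)) := QCoh.isCoh_push_structure i
    rcases hcl.lt_or_eq with hlt | heq
    · refine sym_eq_zero k (List.forall_mem_cons.2 ⟨hM, hinv⟩) hO ?_
      rw [List.length_cons, hl]
      exact HilbPoly.dimLT_of_subset (hr ▸ QCoh.support_push_subset i QCoh.isQCoh_structureModule) hlt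
    · cases l with
      | nil =>
        refine h Z i ((dim_eq_of_range i hr).trans (heq.trans ?_))
        rw [List.length_nil] at hl
        rw [← hl]
        rfl
      | cons N l =>
        have hN := hinv N List.mem_cons_self
        have hinv' : Inv l := fun A hA' => hinv A (List.mem_cons_of_mem _ hA')
        rw [List.length_cons] at hl
        obtain ⟨C₁, C₂, hC₁, hC₂, hs₁, hx₁, hs₂, hx₂, hC⟩ := HilbPoly.exists_step i hr hN
        have hlt : ∀ C : X.Modules, Coh.IsCoh C → CohB1.support C ⊆ closure {ξ} → ξ ∉ CohB1.support C →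
            sym k (M :: l) C = 0 := fun C hCc hs hx =>
          IH l.length (by omega) l rfl hinv' C hCc (HilbPoly.le_of_lt_succ
            (HilbPoly.dim_lt_closure (n := l.length + 1 + 1) (by rw [hl]; exact hcl)
              (QCoh.isClosed_support_of_isFT hCc.1 hCc.2) hs hx))
        have hG := additive_sym k (List.forall_mem_cons.2 ⟨hM, hinv'⟩)
        have h3 := hC _ hG
        rw [hlt C₁ hC₁ hs₁ hx₁, hlt C₂ hC₂ hs₂ hx₂, add_zero, add_zero] at h3
        rw [sym_perm k (List.Perm.swap N M l) (List.forall_mem_cons.2 ⟨hM, hinv⟩), sym_cons]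
        exact sub_eq_zero.2 h3

/-- Numerically equivalent modules in the first slot. -/
theorem sym_head_eq {A B : X.Modules} (hA : PicF.IsInvertible A) (hB : PicF.IsInvertible B) (h : NumEq k A B)
    {l : List X.Modules} (hl : Inv l) {F : X.Modules} (hF : Coh.IsCoh F)
    (hd : topologicalKrullDim ↥(CohB1.support F) ≤ ((l.length + 1 : ℕ) : WithBot ℕ∞)) :
    sym k (A :: l) F = sym k (B :: l) F := by
  haveI := CurveCohLib.isNoetherian_of_proper (k := k) (X := X)
  obtain ⟨B', hB', ⟨u⟩⟩ := H23.PicInv.exists_inverse hB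
  have hT := InvX.isInvertible_tensorMod hA hB'
  have h0 : sym k (CohB1.tensorMod A B' :: l) F = 0 := by
    refine sym_eq_zero_of_curves k hT (fun Z i _ _ hZ => ?_) l.length l rfl hl F hF hd
    have hO : Coh.IsCoh ((Coh.push i).obj (Coh.structureModule Z)) := QCoh.isCoh_push_structure i
    have hd1 := dim_push_le i (QCoh.isQCoh_structureModule (X := Z)) (d := ((1 : ℕ) : WithBot ℕ∞))
      (by rw [Nat.cast_one]; exact hZ.le)
    rw [sym_tensor_head k hA hB' (l := []) (List.forall_mem_nil _) hO hd1,
      sym_inverse_head k hB' hB ((CurveTensor.commIso B' B) ≪≫ u) (l := []) (List.forall_mem_nil _) hO hd1, h Z i hZ]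
    ring
  rw [sym_tensor_head k hA hB' hl hF hd,
    sym_inverse_head k hB' hB ((CurveTensor.commIso B' B) ≪≫ u) hl hF hd] at h0
  linarith

/-- Numerically equivalent modules in all slots. -/
theorem sym_eq_of_numEq {l l' : List X.Modules}
    (h : List.Forall₂ (fun A B => PicF.IsInvertible A ∧ PicF.IsInvertible B ∧ NumEq k A B) l l') :
    ∀ pre : List X.Modules, Inv pre → ∀ F : X.Modules, Coh.IsCoh F →
      topologicalKrullDim ↥(CohB1.support F) ≤ ((pre.length + l.length : ℕ) : WithBot ℕ∞) →
      sym k (pre ++ l) F = sym k (pre ++ l') F := by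
  induction h with
  | nil => exact fun _ _ _ _ _ => rfl
  | @cons A B l l' hAB hll ih =>
    intro pre hpre F hF hd
    obtain ⟨hA, hB, hnum⟩ := hAB
    have hl : Inv l := fun N hN => by
      clear ih hd
      induction hll with
      | nil => simp at hN
      | @cons a b l₁ l₂ hab _ ih' =>
        rcases List.mem_cons.1 hN with rfl | hN
        · exact hab.1
        · exact ih' hN
    have hpl : Inv (pre ++ l) := List.forall_mem_append.2 ⟨hpre, hl⟩
    rw [sym_perm k List.perm_middle (List.forall_mem_append.2 ⟨hpre, List.forall_mem_cons.2 ⟨hA, hl⟩⟩),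
      sym_head_eq k hA hB hnum hpl hF (by rw [List.length_append, add_assoc]; simpa only [List.length_cons] using hd),
      sym_perm k List.perm_middle.symm (List.forall_mem_cons.2 ⟨hB, hpl⟩)]
    have h1 := ih (pre ++ [B]) (List.forall_mem_append.2 ⟨hpre, by simpa using hB⟩) F hF
      (hd.trans (by simp [add_assoc, add_comm 1]))
    simpa using h1

/-- The same for families. -/
theorem sym_ofFn_eq_of_numEq {r : ℕ} {L L' : Fin r → X.Modules} (hL : ∀ i, PicF.IsInvertible (L i))
    (hL' : ∀ i, PicF.IsInvertible (L' i)) (h : ∀ i, NumEq k (L i) (L' i)) {F : X.Modules} (hF : Coh.IsCoh F)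
    (hd : topologicalKrullDim ↥(CohB1.support F) ≤ (r : WithBot ℕ∞)) :
    sym k (List.ofFn L) F = sym k (List.ofFn L') F := by
  have := sym_eq_of_numEq k (l := List.ofFn L) (l' := List.ofFn L')
    (List.forall₂_iff_get.2 ⟨by simp, fun i h₁ h₂ => by simp [hL, hL', h]⟩) [] (List.forall_mem_nil _) F hF
    (by simpa using hd)
  simpa using this

end Groth.Agent.IntSym
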