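import Groth.Agent.IntSym.Num
import Groth.Agent.LerayEuler.Pullback
import Groth.Agent.H23.PullPush
import Mathlib.AlgebraicGeometry.ZariskisMainTheorem

/-! Higher direct images vanish over points with finite fibres in the support. -/

noncomputable section

set_option linter.style.haveILetI false
set_option linter.unusedSectionVars false
set_option backward.isDefEq.respectTransparency false
set_option backward.isDefEq.respectTransparency.types false
set_option maxHeartbeats 1000000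

universe u

open CategoryTheory CategoryTheory.Limits AlgebraicGeometry TopologicalSpace Opposite

attribute [local instance] HasDerivedCategory.standard

namespace Groth.Agent.IntSym

variable {X Y : Scheme.{u}} (f : Y ⟶ X) [IsProper f] [IsNoetherian Y] [IsLocallyNoetherian X]

/-- The higher cohomology over small affines vanishes. -/
def AcyclicOver (V : X.Opens) (M : Y.Modules) : Prop :=
  ∀ W : X.Opens, IsAffineOpen W → W ≤ V → ∀ i, Subsingleton (Coh.HH _ (M.restrict (f ⁻¹ᵁ W).ι) (i + 1))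

theorem exists_affine_le {ξ : X} {V : X.Opens} (h : ξ ∈ V) : ∃ W : X.Opens, IsAffineOpen W ∧ ξ ∈ W ∧ W ≤ V := by
  obtain ⟨_, ⟨W, hW, rfl⟩, hξW, hle⟩ := X.isBasis_affineOpens.exists_subset_of_mem_open h V.2
  exact ⟨W, hW, hξW, hle⟩

theorem exists_acyclicOver {ξ : X} {C : Set Y} (hfin : (f ⁻¹' {ξ} ∩ C).Finite) {M : Y.Modules}
    (hM : Coh.IsCoh M) (hC : CohB1.support M ⊆ C) :
    ∃ V : X.Opens, IsAffineOpen V ∧ ξ ∈ V ∧ AcyclicOver f V M := by
  induction QCoh.filt_of_isCoh hM with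
  | @zero N hN =>
    obtain ⟨V, hV, hξ, -⟩ := exists_affine_le (ξ := ξ) (V := (⊤ : X.Opens)) trivial
    refine ⟨V, hV, hξ, fun W _ _ i => ?_⟩
    exact Euler.subsingleton_HH_of_isZero ((Scheme.Modules.restrictFunctor (f ⁻¹ᵁ W).ι).map_isZero hN) _
  | @step N M' φ _ _ hNc hMc hex ih =>
    obtain ⟨Z, j, hj, hZ, I, ι, hι, hI, hI0, ⟨e⟩⟩ := hex
    haveI := hj; haveI := hZ; haveI := hι
    have hc := QCoh.isCoh_cokernel hNc.1 hMc φ
    obtain ⟨V₁, hV₁, hξ₁, h₁⟩ := ih hNc ((QCoh.mem_support_of_mono hNc.1 hMc.1 φ).trans hC)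
    have hr : Set.range j ⊆ C := by
      rw [QCoh.range_eq_closure j, ← QCoh.support_push_ideal j ι hI hI0, ← QCoh.support_iso e hc.1]
      exact (QCoh.support_of_epi hMc.1 hc.1 (cokernel.π φ)).trans hC
    have hfin' : ((j ≫ f) ⁻¹' {ξ}).Finite := by
      refine (hfin.preimage j.isClosedEmbedding.injective.injOn).subset fun z hz => ?_
      exact ⟨hz, hr ⟨z, rfl⟩⟩
    obtain ⟨V₂, hξ₂, hfin₂⟩ := exists_isFinite_morphismRestrict_of_finite_preimage_singleton (f := j ≫ f) ξ hfin'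
    obtain ⟨V, hV, hξV, hle⟩ := exists_affine_le (ξ := ξ) (V := V₁ ⊓ V₂) ⟨hξ₁, hξ₂⟩
    refine ⟨V, hV, hξV, fun W hW hWV i => ?_⟩
    let R := Scheme.Modules.restrictFunctor (f ⁻¹ᵁ W).ι
    have hS : (ShortComplex.mk φ (cokernel.π φ) (cokernel.condition φ)).ShortExact :=
      .mk' (ShortComplex.exact_of_g_is_cokernel _ (cokernelIsCokernel φ)) ‹_› inferInstance
    refine QCoh.subsingleton_HH_X₂ (hS.map_of_exact R) (i + 1) (h₁ W hW (hWV.trans (hle.trans inf_le_left)) i) ?_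
    refine QCoh.subsingleton_HH_of_iso (R.mapIso e).symm (i + 1) ?_
    refine QCoh.subsingleton_HH_of_iso (asIso ((H23.PullPush.pushRestrict j (f ⁻¹ᵁ W)).app I)).symm (i + 1) ?_
    have haff : IsAffineOpen (j ⁻¹ᵁ (f ⁻¹ᵁ W)) := by
      haveI := hfin₂
      have hW2 : W ≤ V₂ := hWV.trans (hle.trans inf_le_right)
      have hW' : IsAffineOpen (V₂.ι ⁻¹ᵁ W) :=
        hW.preimage_of_isOpenImmersion _ (by rw [Scheme.Opens.opensRange_ι]; exact hW2)
      have h := (hW'.preimage ((j ≫ f) ∣_ V₂)).image_of_isOpenImmersion ((j ≫ f) ⁻¹ᵁ V₂).ι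
      rw [image_morphismRestrict_preimage] at h
      rwa [Scheme.Hom.image_preimage_eq_opensRange_inf, Scheme.Opens.opensRange_ι, inf_eq_right.2 hW2] at h
    haveI : IsAffine (j ⁻¹ᵁ (f ⁻¹ᵁ W)).toScheme := haff
    have hIr : Coh.IsQCoh (I.restrict (j ⁻¹ᵁ (f ⁻¹ᵁ W)).ι) := QCoh.isQCoh_restrict _ hI
    obtain ⟨l⟩ := QCoh.HH_push_linear (j ∣_ (f ⁻¹ᵁ W)) (A := Γ((f ⁻¹ᵁ W).toScheme, ⊤))
      (RingHom.id _) (j ∣_ (f ⁻¹ᵁ W)).appTop.hom
      (fun _ => rfl) hIr (i + 1)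
    haveI := QCoh.subsingleton_HH_of_isAffine hIr i
    exact @Equiv.subsingleton _ _ l.toEquiv.symm ‹_›

/-- Higher direct images vanish at such points. -/
theorem notMem_support_Rpush_of_finite [HasInjectiveResolutions Y.Modules] {ξ : X} {M : Y.Modules}
    (hM : Coh.IsCoh M) (hfin : (f ⁻¹' {ξ} ∩ CohB1.support M).Finite) (i : ℕ) :
    ξ ∉ CohB1.support ((Coh.Rpush f (i + 1)).obj M) := by
  obtain ⟨V, hV, hξV, hacy⟩ := exists_acyclicOver f hfin hM subset_rfl
  refine not_not.2 (show Subsingleton (((Coh.Rpush f (i + 1)).obj M).presheaf.stalk ξ) from ?_)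
  refine subsingleton_of_forall_eq 0 fun t => ?_
  obtain ⟨W, hξW, s, rfl⟩ := ((Coh.Rpush f (i + 1)).obj M).presheaf.germ_exist t
  obtain ⟨W', hW', hξ', hle⟩ := exists_affine_le (ξ := ξ) (V := W ⊓ V) ⟨hξW, hξV⟩
  obtain ⟨l⟩ := QCoh.nonempty_sections_HH (f := f) (V := W') hM.1 hW' (i + 1)
  haveI := hacy W' hW' (hle.trans inf_le_right) i
  haveI : Subsingleton Γ((Coh.Rpush f (i + 1)).obj M, W') := l.toEquiv.subsingleton
  rw [← ((Coh.Rpush f (i + 1)).obj M).presheaf.germ_res_apply (homOfLE (hle.trans inf_le_left)) ξ hξ' s]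
  exact (congrArg _ (Subsingleton.elim _ (0 : Γ((Coh.Rpush f (i + 1)).obj M, W')))).trans (map_zero _)

end Groth.Agent.IntSym
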